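import Cfsg.Agent.Lib.DimThreeSub.Core
import Cfsg.Prelude.Def_LieClassical

/-!
# Subgroups of `PGL₃` with a socle: common vocabulary

`Setup` records a subgroup `H` of the projective group, given by an injective map `ρ`, together with the
preimage `P` of its socle, over a field over which no proper subfield realises `P`.
-/

set_option autoImplicit false
set_option linter.unusedSectionVars false

namespace CfsgLib.DimThreeSub

open Cfsg Cfsg.Geo Matrix CfsgLib.Geo.Asch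
open scoped MatrixGroups

universe u v

/-- The projective general linear group of the natural module of dimension three. -/
abbrev PG (F : Type u) [Field F] : Type u := GL (Fin 3) F ⧸ scalars (Fin 3) F

/-- No non-trivial abelian normal subgroup. -/
def NoAb (H : Type v) [Group H] : Prop :=
  ∀ N : Subgroup H, N.Normal → (∀ a ∈ N, ∀ b ∈ N, a * b = b * a) → N = ⊥

section

variable {F : Type u} [Field F] {H : Type v} [Group H]

/-- The matrices whose classes lie in the image of `ρ`. -/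
def lifts (ρ : H →* PG F) : Subgroup (GL (Fin 3) F) :=
  ρ.range.comap (QuotientGroup.mk' (scalars (Fin 3) F))

theorem mem_lifts {ρ : H →* PG F} {g : GL (Fin 3) F} :
    g ∈ lifts ρ ↔ ∃ h, ρ h = (g : PG F) := Iff.rfl

theorem scalars_le_lifts (ρ : H →* PG F) : scalars (Fin 3) F ≤ lifts ρ :=
  fun g hg => ⟨1, by rw [map_one]; exact ((QuotientGroup.eq_one_iff g).2 hg).symm⟩

theorem mul_scalar_mem_lifts {ρ : H →* PG F} {g s : GL (Fin 3) F} (hg : g ∈ lifts ρ)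
    (hs : s ∈ scalars (Fin 3) F) : g * s ∈ lifts ρ :=
  mul_mem hg (scalars_le_lifts ρ hs)

/-- The data of a subgroup of the projective group with socle preimage `P`. -/
structure Setup [Fintype F] (p γ α : ℕ) (ρ : H →* PG F) (P : Subgroup (GL (Fin 3) F)) : Prop where
  card : Fintype.card F = p ^ γ
  dvd : γ ∣ α
  hp : p ≠ 2
  inj : Function.Injective ρ
  noab : NoAb H
  le : P ≤ lifts ρ
  normal : ∀ g ∈ lifts ρ, ∀ x ∈ P, g * x * g⁻¹ ∈ P
  perfect : ⁅P, P⁆ = P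
  nscal : ¬ P ≤ scalars (Fin 3) F
  span : algOf P = ⊤
  simple : IsSimpleGroup (P ⧸ (scalars (Fin 3) F).subgroupOf P)
  nonab : ¬ IsMulCommutative (P ⧸ (scalars (Fin 3) F).subgroupOf P)
  cent : ∀ g ∈ lifts ρ, (∀ x ∈ P, g * x * g⁻¹ * x⁻¹ ∈ scalars (Fin 3) F) → g ∈ scalars (Fin 3) F
  nosub : ∀ F₀ : Subfield F, F₀ ≠ ⊤ → ¬ RealisableOver F₀ (matrixSet P)
  cube : ∀ g ∈ lifts ρ, (∀ x : F, x ^ 3 ≠ (g : Matrix (Fin 3) (Fin 3) F).det) → 3 * γ ∣ α

theorem Setup.det_eq_one [Fintype F] {p γ α : ℕ} {ρ : H →* PG F} {P : Subgroup (GL (Fin 3) F)}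
    (hS : Setup p γ α ρ P) {x : GL (Fin 3) F} (hx : x ∈ P) : (x : Matrix (Fin 3) (Fin 3) F).det = 1 := by
  have h1 : (⟨x, hx⟩ : P) ∈ (Matrix.GeneralLinearGroup.det.comp P.subtype).ker :=
    Abelianization.commutator_subset_ker _ ((commutator_subtype_top hS.perfect).symm ▸ Subgroup.mem_top _)
  exact congrArg Units.val (MonoidHom.mem_ker.1 h1)

end

/-- The list of the classification. -/
def Concl (p α : ℕ) (H : Type v) [Group H] : Prop :=
    (∃ (K : Type) (_ : Field K) (_ : Fintype K) (β : ℕ), Fintype.card K = p ^ β ∧ β ∣ α ∧ Nonempty (H ≃* Matrix.ProjectiveSpecialLinearGroup (Fin 3) K)) ∨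
    (∃ (K : Type) (_ : Field K) (_ : Fintype K) (β : ℕ), Fintype.card K = p ^ (2 * β) ∧ 2 * β ∣ α ∧ Nonempty (H ≃* Cfsg.PSU 3 K (p ^ β))) ∨
    (∃ (K : Type) (_ : Field K) (_ : Fintype K) (β : ℕ), Fintype.card K = p ^ β ∧ 3 ∣ p ^ β - 1 ∧ 3 * β ∣ α ∧ ∃ L : Subgroup H, L.index = 3 ∧ Nonempty (↥L ≃* Matrix.ProjectiveSpecialLinearGroup (Fin 3) K)) ∨
    (∃ (K : Type) (_ : Field K) (_ : Fintype K) (β : ℕ), Fintype.card K = p ^ (2 * β) ∧ 3 ∣ p ^ β + 1 ∧ 6 * β ∣ α ∧ ∃ L : Subgroup H, L.index = 3 ∧ Nonempty (↥L ≃* Cfsg.PSU 3 K (p ^ β))) ∨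
    (∃ (K : Type) (_ : Field K) (_ : Fintype K) (β : ℕ), Fintype.card K = p ^ β ∧ β ∣ α ∧ p ^ β ≠ 3 ∧ (Nonempty (H ≃* Matrix.ProjectiveSpecialLinearGroup (Fin 2) K) ∨ Nonempty (H ≃* (GL (Fin 2) K ⧸ Subgroup.center (GL (Fin 2) K))))) ∨
    ((p ^ α % 10 = 1 ∨ p ^ α % 10 = 9) ∧ ∃ (K : Type) (_ : Field K) (_ : Fintype K), Fintype.card K = 5 ∧ Nonempty (H ≃* Matrix.ProjectiveSpecialLinearGroup (Fin 2) K)) ∨
    ((p ^ α) ^ 3 % 7 = 1 ∧ ∃ (K : Type) (_ : Field K) (_ : Fintype K), Fintype.card K = 7 ∧ Nonempty (H ≃* Matrix.ProjectiveSpecialLinearGroup (Fin 2) K)) ∨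
    (p = 5 ∧ Even α ∧ (Nonempty (H ≃* ↥(alternatingGroup (Fin 6))) ∨ Nonempty (H ≃* ↥(alternatingGroup (Fin 7))) ∨
      ∃ L : Subgroup H, L.index = 2 ∧ Nonempty (↥L ≃* ↥(alternatingGroup (Fin 6))))) ∨
    ((p ^ α % 30 = 1 ∨ p ^ α % 30 = 19) ∧ Nonempty (H ≃* ↥(alternatingGroup (Fin 6))))

/-- The exceptional perfect groups over the full linear group. -/
def LinExc {F : Type u} [Field F] [Fintype F] (P : Subgroup (GL (Fin 3) F)) (p : ℕ) : Prop :=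
  (Nonempty ((P ⧸ (scalars (Fin 3) F).subgroupOf P) ≃* Matrix.ProjectiveSpecialLinearGroup (Fin 3) (ZMod 2)) ∧
      Fintype.card F = p ∧ p ≠ 2 ∧ (p % 7 = 1 ∨ p % 7 = 2 ∨ p % 7 = 4)) ∨
    (Nonempty ((P ⧸ (scalars (Fin 3) F).subgroupOf P) ≃* alternatingGroup (Fin 6)) ∧
      ((Fintype.card F = p ∧ (p % 15 = 1 ∨ p % 15 = 4)) ∨
        (Fintype.card F = p ^ 2 ∧ p ≠ 3 ∧ (p % 5 = 2 ∨ p % 5 = 3))))

/-- The exceptional perfect groups over the unitary group. -/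
def UnitExc {F : Type u} [Field F] [Fintype F] (P : Subgroup (GL (Fin 3) F)) (q : ℕ) : Prop :=
  q.Prime ∧
    ((Nonempty ((P ⧸ (scalars (Fin 3) F).subgroupOf P) ≃* Matrix.ProjectiveSpecialLinearGroup (Fin 3) (ZMod 2)) ∧
        (q % 7 = 3 ∨ q % 7 = 5 ∨ q % 7 = 6)) ∨
      (Nonempty ((P ⧸ (scalars (Fin 3) F).subgroupOf P) ≃* alternatingGroup (Fin 6)) ∧
        (q % 15 = 11 ∨ q % 15 = 14 ∨ q = 5)) ∨
      (Nonempty ((P ⧸ (scalars (Fin 3) F).subgroupOf P) ≃* alternatingGroup (Fin 7)) ∧ q = 5))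

/-- Mitchell's theorem for perfect subgroups which are simple modulo scalars. -/
def LinCore : Prop :=
  ∀ (F : Type u) [Field F] [Fintype F] (p : ℕ) [Fact p.Prime] [CharP F p], p ≠ 2 →
    ∀ P : Subgroup (GL (Fin 3) F), ⁅P, P⁆ = P → IsSimpleGroup (P ⧸ (scalars (Fin 3) F).subgroupOf P) →
    ¬ IsMulCommutative (P ⧸ (scalars (Fin 3) F).subgroupOf P) → ActsAbsolutelyIrreducibly (matrixSet P) →
    (∀ F₀ : Subfield F, F₀ ≠ ⊤ → ¬ RealisableOver F₀ (matrixSet P)) →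
    P = specialLinear (Fin 3) F ∨
      (∃ Q : (Fin 3 → F) → F, IsNondegenerateQuadraticForm Q ∧ FixesQuadForm (matrixSet P) Q) ∨
      (∃ (σ : F ≃+* F) (f : (Fin 3 → F) → (Fin 3 → F) → F), IsUnitaryForm σ f ∧ FixesForm (matrixSet P) f) ∨
      LinExc P p

/-- Mitchell's theorem inside the unitary group. -/
def UnitCore : Prop :=
  ∀ (F : Type u) [Field F] [Fintype F] (q : ℕ), Fintype.card F = q ^ 2 → 3 ≤ q → Odd q →
    ∀ P : Subgroup (GL (Fin 3) F), ⁅P, P⁆ = P → IsSimpleGroup (P ⧸ (scalars (Fin 3) F).subgroupOf P) →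
    ¬ IsMulCommutative (P ⧸ (scalars (Fin 3) F).subgroupOf P) → ActsAbsolutelyIrreducibly (matrixSet P) →
    (∀ F₀ : Subfield F, F₀ ≠ ⊤ → ¬ RealisableOver F₀ (matrixSet P)) → P ≤ Cfsg.GU 3 F q →
    P = Cfsg.GU 3 F q ⊓ specialLinear (Fin 3) F ∨
      (∃ Q : (Fin 3 → F) → F, IsNondegenerateQuadraticForm Q ∧ FixesQuadForm (matrixSet P) Q) ∨
      UnitExc P q

end CfsgLib.DimThreeSub
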