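import Cfsg.Agent.Lib.DimThreeSub.Socle
import Cfsg.Agent.Lib.Schur.AutAlternating

/-!
# The socle is alternating of degree seven
-/

set_option autoImplicit false
set_option linter.unusedSectionVars false

namespace CfsgLib.DimThreeSub

open Cfsg Cfsg.Geo Matrix CfsgLib.Geo.Asch
open scoped MatrixGroups commutatorElement

universe u v

variable {F : Type u} [Field F]

/-- A perfect group without central involutions cannot centralise a non-scalar involution of the plane. -/
theorem no_homology (h2 : (2 : F) ≠ 0) [Fintype F] {g : GL (Fin 3) F} (hg2 : g * g ∈ scalars (Fin 3) F)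
    (hgs : g ∉ scalars (Fin 3) F) {K : Subgroup (GL (Fin 3) F)} (hperf : ⁅K, K⁆ = K)
    (hcomm : ∀ x ∈ K, g * x = x * g)
    (hz : ∀ z : K, z * z = 1 → (∀ k, z * k = k * z) → z = 1) : K = ⊥ := by
  classical
  obtain ⟨c, hc⟩ := (mem_scalars_iff _).1 hg2
  set d := (g : Matrix (Fin 3) (Fin 3) F).det with hd
  have hd2 : d * d = (c : F) ^ 3 := by
    rw [hd, ← Matrix.det_mul, ← Units.val_mul, hc, Matrix.det_smul, Matrix.det_one, mul_one, Fintype.card_fin]
  have hc0 : (c : F) ≠ 0 := c.ne_zero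
  have hd0 : d ≠ 0 := Matrix.GeneralLinearGroup.det_ne_zero g
  set e : F := d / c with he
  have he2 : e * e = c := by rw [he]; field_simp; linear_combination hd2
  have he0 : e ≠ 0 := div_ne_zero hd0 hc0
  set M : Matrix (Fin 3) (Fin 3) F := e⁻¹ • (g : Matrix (Fin 3) (Fin 3) F) with hM
  have hMM : M * M = 1 := by
    rw [hM, Matrix.smul_mul, Matrix.mul_smul, smul_smul, ← Units.val_mul, hc, smul_smul, ← mul_inv, he2,
      inv_mul_cancel₀ hc0, one_smul]
  have hMne : ∀ a : F, M ≠ a • (1 : Matrix (Fin 3) (Fin 3) F) := by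
    intro a h
    apply hgs
    have hgM : (g : Matrix (Fin 3) (Fin 3) F) = (e * a) • (1 : Matrix (Fin 3) (Fin 3) F) := by
      rw [← smul_smul, ← h, hM, smul_smul, mul_inv_cancel₀ he0, one_smul]
    have hne : e * a ≠ 0 := fun h0 => g.ne_zero (by rw [hgM, h0, zero_smul])
    exact (mem_scalars_iff g).2 ⟨Units.mk0 _ hne, hgM⟩
  have hMK : ∀ k : K, M * ((k : GL (Fin 3) F) : Matrix (Fin 3) (Fin 3) F) =
      ((k : GL (Fin 3) F) : Matrix (Fin 3) (Fin 3) F) * M := fun k => by
    rw [hM, Matrix.smul_mul, Matrix.mul_smul, ← Units.val_mul, hcomm _ k.2, Units.val_mul]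
  let W₁ : Submodule F (Fin 3 → F) := LinearMap.ker (Matrix.toLin' M - 1)
  let W₂ : Submodule F (Fin 3 → F) := LinearMap.ker (Matrix.toLin' M + 1)
  have hm₁ : ∀ v, v ∈ W₁ ↔ M *ᵥ v = v := fun v => by
    simp [W₁, LinearMap.mem_ker, sub_eq_zero, Matrix.toLin'_apply]
  have hm₂ : ∀ v, v ∈ W₂ ↔ M *ᵥ v = -v := fun v => by
    simp [W₂, LinearMap.mem_ker, add_eq_zero_iff_eq_neg, Matrix.toLin'_apply]
  have hMv : ∀ v, M *ᵥ (M *ᵥ v) = v := fun v => by rw [Matrix.mulVec_mulVec, hMM, Matrix.one_mulVec]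
  have hcompl : IsCompl W₁ W₂ := by
    constructor
    · rw [Submodule.disjoint_def]
      intro v h₁ h₂
      rw [hm₁] at h₁
      rw [hm₂, h₁] at h₂
      have : (2 : F) • v = 0 := by rw [two_smul]; exact eq_neg_iff_add_eq_zero.1 h₂
      exact (smul_eq_zero.1 this).resolve_left h2
    · rw [codisjoint_iff, Submodule.eq_top_iff']
      intro v
      refine Submodule.mem_sup.2 ⟨(2 : F)⁻¹ • (v + M *ᵥ v), ?_, (2 : F)⁻¹ • (v - M *ᵥ v), ?_, ?_⟩
      · rw [hm₁, Matrix.mulVec_smul, Matrix.mulVec_add, hMv, add_comm]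
      · rw [hm₂, Matrix.mulVec_smul, Matrix.mulVec_sub, hMv, ← smul_neg, neg_sub]
      · rw [← smul_add, show v + M *ᵥ v + (v - M *ᵥ v) = (2 : F) • v by rw [two_smul]; abel, smul_smul,
          inv_mul_cancel₀ h2, one_smul]
  have hne₁ : W₁ ≠ ⊥ := by
    intro h
    have htop : W₂ = ⊤ := by rw [← bot_sup_eq W₂, ← h]; exact hcompl.sup_eq_top
    apply hMne (-1)
    refine Matrix.ext_of_mulVec_single fun i => ?_
    have : Pi.single i 1 ∈ W₂ := htop ▸ Submodule.mem_top
    rw [(hm₂ _).1 this, neg_smul, one_smul, Matrix.neg_mulVec, Matrix.one_mulVec]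
  have hne₂ : W₂ ≠ ⊥ := by
    intro h
    have htop : W₁ = ⊤ := by rw [← sup_bot_eq W₁, ← h]; exact hcompl.sup_eq_top
    apply hMne 1
    refine Matrix.ext_of_mulVec_single fun i => ?_
    have : Pi.single i 1 ∈ W₁ := htop ▸ Submodule.mem_top
    rw [(hm₁ _).1 this, one_smul, Matrix.one_mulVec]
  have hsum : Module.finrank F W₁ + Module.finrank F W₂ = 3 := by
    rw [Submodule.finrank_add_eq_of_isCompl hcompl, Module.finrank_fin_fun]
  have hpos₁ : 0 < Module.finrank F W₁ := Nat.pos_of_ne_zero fun h => hne₁ (Submodule.finrank_eq_zero.1 h)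
  have hpos₂ : 0 < Module.finrank F W₂ := Nat.pos_of_ne_zero fun h => hne₂ (Submodule.finrank_eq_zero.1 h)
  have hinv₁ : ∀ k : K, ∀ v ∈ W₁, ((k : GL (Fin 3) F) : Matrix (Fin 3) (Fin 3) F) *ᵥ v ∈ W₁ := fun k v hv => by
    rw [hm₁] at hv ⊢
    rw [Matrix.mulVec_mulVec, hMK, ← Matrix.mulVec_mulVec, hv]
  have hinv₂ : ∀ k : K, ∀ v ∈ W₂, ((k : GL (Fin 3) F) : Matrix (Fin 3) (Fin 3) F) *ᵥ v ∈ W₂ := fun k v hv => by
    rw [hm₂] at hv ⊢
    rw [Matrix.mulVec_mulVec, hMK, ← Matrix.mulVec_mulVec, hv, Matrix.mulVec_neg]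
  let rep : ∀ W : Submodule F (Fin 3 → F),
      (∀ k : K, ∀ v ∈ W, ((k : GL (Fin 3) F) : Matrix (Fin 3) (Fin 3) F) *ᵥ v ∈ W) →
        (K →* Module.End F W) := fun W hW =>
    { toFun := fun k => (Matrix.toLin' ((k : GL (Fin 3) F) : Matrix (Fin 3) (Fin 3) F)).restrict
        (fun v hv => by simpa [Matrix.toLin'_apply] using hW k v hv)
      map_one' := LinearMap.ext fun v => Subtype.ext (by simp)
      map_mul' := fun a b => LinearMap.ext fun v => Subtype.ext (by simp [Matrix.mulVec_mulVec]) }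
  have hperfT : commutator K = ⊤ := commutator_subtype_top hperf
  have hone : ∀ (W : Submodule F (Fin 3 → F)), Module.finrank F W = 1 →
      ∀ (π : K →* Module.End F W) (k : K), π k = 1 := by
    intro W hW π k
    let δ : K →* Fˣ := (Units.map (LinearMap.det : Module.End F W →* F)).comp π.toHomUnits
    have h1 : LinearMap.det (π k) = 1 := congrArg Units.val (MonoidHom.mem_ker.1
      (Abelianization.commutator_subset_ker δ (hperfT ▸ Subgroup.mem_top k)))
    obtain ⟨v, hv, hspan⟩ := finrank_eq_one_iff'.1 hW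
    obtain ⟨a, ha⟩ := hspan (π k v)
    have hπ : π k = a • (1 : Module.End F W) := LinearMap.ext fun x => by
      obtain ⟨b, rfl⟩ := hspan x
      rw [map_smul, ← ha, LinearMap.smul_apply, Module.End.one_apply, smul_comm]
    rw [hπ, LinearMap.det_smul, hW, pow_one, map_one, mul_one] at h1
    rw [hπ, h1, one_smul]
  have hboth : ∀ k : K, rep W₁ hinv₁ k = 1 → rep W₂ hinv₂ k = 1 → k = 1 := by
    intro k h₁ h₂
    refine Subtype.ext (Units.ext (Matrix.ext_of_mulVec_single fun i => ?_))
    obtain ⟨a, ha, b, hb, hab⟩ := Submodule.mem_sup.1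
      (hcompl.sup_eq_top ▸ Submodule.mem_top : Pi.single i (1 : F) ∈ W₁ ⊔ W₂)
    have e1 := congrArg Subtype.val (LinearMap.congr_fun h₁ ⟨a, ha⟩)
    have e2 := congrArg Subtype.val (LinearMap.congr_fun h₂ ⟨b, hb⟩)
    simp [rep] at e1 e2
    rw [← hab, Matrix.mulVec_add, e1, e2]
    show a + b = (1 : Matrix (Fin 3) (Fin 3) F) *ᵥ (a + b)
    rw [Matrix.one_mulVec]
  rw [Subgroup.eq_bot_iff_forall]
  intro k hk
  have htriv : (⟨k, hk⟩ : K) = 1 := by
    rcases (show Module.finrank F W₁ = 1 ∨ Module.finrank F W₂ = 1 by omega) with h | h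
    · exact eq_one_of_rep_two (show Module.finrank F W₂ = 2 by omega) h2 hperfT (rep W₂ hinv₂)
        ((injective_iff_map_eq_one _).2 fun j hj => hboth j (hone W₁ h _ j) hj) hz _
    · exact eq_one_of_rep_two (show Module.finrank F W₁ = 2 by omega) h2 hperfT (rep W₁ hinv₁)
        ((injective_iff_map_eq_one _).2 fun j hj => hboth j hj (hone W₂ h _ j)) hz _
  exact congrArg Subtype.val htriv

/-- Permutations of the last five of seven letters. -/
def fiveHom : Equiv.Perm (Fin 5) →* Equiv.Perm (Fin 7) :=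
  (finSumFinEquiv (m := 2) (n := 5)).permCongrHom.toMonoidHom.comp
    ((Equiv.Perm.sumCongrHom (Fin 2) (Fin 5)).comp (MonoidHom.inr _ _))

/-- The transposition of the first two letters. -/
def firstSwap : Equiv.Perm (Fin 7) :=
  (finSumFinEquiv (m := 2) (n := 5)).permCongrHom (Equiv.Perm.sumCongr (Equiv.swap 0 1) 1)

theorem firstSwap_sign : Equiv.Perm.sign firstSwap = -1 := by decide

theorem firstSwap_sq : firstSwap * firstSwap = 1 := by decide

theorem firstSwap_comm (s : Equiv.Perm (Fin 5)) : firstSwap * fiveHom s = fiveHom s * firstSwap := by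
  show (finSumFinEquiv (m := 2) (n := 5)).permCongrHom _ * (finSumFinEquiv (m := 2) (n := 5)).permCongrHom _ =
    (finSumFinEquiv (m := 2) (n := 5)).permCongrHom _ * (finSumFinEquiv (m := 2) (n := 5)).permCongrHom _
  rw [← map_mul, ← map_mul]
  congr 1
  ext x
  rcases x with x | x <;> rfl

/-- The even permutations of the last five letters. -/
def altFiveHom : alternatingGroup (Fin 5) →* alternatingGroup (Fin 7) :=
  (fiveHom.comp (alternatingGroup (Fin 5)).subtype).codRestrict _ fun s => by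
    rw [Equiv.Perm.mem_alternatingGroup]
    show Equiv.Perm.sign ((finSumFinEquiv (m := 2) (n := 5)).permCongr (Equiv.Perm.sumCongr 1 (s : Equiv.Perm (Fin 5)))) = 1
    rw [Equiv.Perm.sign_permCongr, Equiv.Perm.sign_sumCongr, map_one, one_mul]
    exact Equiv.Perm.mem_alternatingGroup.1 s.2

theorem altFiveHom_injective : Function.Injective altFiveHom := by
  intro a b h
  have h1 : fiveHom (a : Equiv.Perm (Fin 5)) = fiveHom b := congrArg Subtype.val h
  exact Subtype.ext (congrArg Prod.snd (Equiv.Perm.sumCongrHom_injective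
    ((finSumFinEquiv (m := 2) (n := 5)).permCongrHom.injective h1) : ((1 : Equiv.Perm (Fin 2)), _) = (1, _)))

/-- **The socle alternating of degree seven.** -/
theorem concl_alt {F : Type u} [Field F] [Fintype F] {H : Type v} [Group H] {p γ α : ℕ} [Fact p.Prime]
    {ρ : H →* PG F} {P : Subgroup (GL (Fin 3) F)} (hS : Setup p γ α ρ P)
    (hiso : Nonempty ((P ⧸ (scalars (Fin 3) F).subgroupOf P) ≃* alternatingGroup (Fin 7)))
    (hp5 : p = 5) (heven : Even γ) : Concl p α H := by
  classical
  haveI : CharP F p := charP_of_card_eq_prime_pow hS.card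
  have h2F : (2 : F) ≠ 0 := by
    intro h
    have h' : ((2 : ℕ) : F) = 0 := by exact_mod_cast h
    exact hS.hp ((Nat.prime_dvd_prime_iff_eq Fact.out Nat.prime_two).1 ((CharP.cast_eq_zero_iff F p 2).1 h'))
  obtain ⟨e0⟩ := hS.socle_equiv
  obtain ⟨e1⟩ := hiso
  let e : socle ρ P ≃* alternatingGroup (Fin 7) := e0.trans e1
  have hall : ∀ h : H, h ∈ socle ρ P := by
    intro h
    obtain ⟨σ, hσ⟩ := (CfsgLib.Schur.conjNormal_bijective (n := 7) (by norm_num) (by norm_num)).2
      (act hS.socle_normal e h)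
    have hinner : ∀ m : alternatingGroup (Fin 7), MulAut.conjNormal (m : Equiv.Perm (Fin 7)) = MulAut.conj m :=
      fun m => MulEquiv.ext fun b => Subtype.ext (MulAut.conjNormal_apply (m : Equiv.Perm (Fin 7)) b)
    rcases Int.units_eq_one_or (Equiv.Perm.sign σ) with hs | hs
    · refine hS.mem_socle_of_inner e (m := ⟨σ, Equiv.Perm.mem_alternatingGroup.2 hs⟩) ?_
      rw [← hσ, ← hinner]
    exfalso
    let m : alternatingGroup (Fin 7) := ⟨σ * firstSwap, Equiv.Perm.mem_alternatingGroup.2 (by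
      rw [map_mul, hs, firstSwap_sign]; rfl)⟩
    obtain ⟨t, ht, -⟩ := hS.exists_reduced e (m := m) (β := MulAut.conjNormal firstSwap) (h := h) (by
      rw [← hσ, ← hinner, ← map_mul, mul_assoc, firstSwap_sq, mul_one])
    have htne : t ≠ 1 := by
      intro h1
      rw [h1, map_one, ← map_one (MulAut.conjNormal : Equiv.Perm (Fin 7) →* MulAut ↥(alternatingGroup (Fin 7)))] at ht
      have := (CfsgLib.Schur.conjNormal_bijective (n := 7) (by norm_num) (by norm_num)).1 ht
      exact absurd (congrArg Equiv.Perm.sign this) (by rw [map_one, firstSwap_sign]; decide)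
    have ht2 : t * t = 1 := hS.act_injective e (by rw [map_mul, ht, ← map_mul, firstSwap_sq, map_one, map_one])
    obtain ⟨g, hg⟩ := QuotientGroup.mk_surjective (ρ t)
    have hg2 : g * g ∈ scalars (Fin 3) F := by
      rw [← QuotientGroup.eq_one_iff, QuotientGroup.mk_mul, hg, ← map_mul, ht2, map_one]
    have hgs : g ∉ scalars (Fin 3) F := fun h1 => htne ((map_eq_one_iff ρ hS.inj).1
      (by rw [← hg]; exact (QuotientGroup.eq_one_iff g).2 h1))
    -- the preimage of the copy of the alternating group of degree five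
    let ι : alternatingGroup (Fin 5) →* PG F :=
      ρ.comp ((socle ρ P).subtype.comp (e.symm.toMonoidHom.comp altFiveHom))
    have hι : Function.Injective ι :=
      hS.inj.comp ((socle ρ P).subtype_injective.comp (e.symm.injective.comp altFiveHom_injective))
    let K₀ : Subgroup (GL (Fin 3) F) := P ⊓ ι.range.comap (QuotientGroup.mk' (scalars (Fin 3) F))
    let K : Subgroup (GL (Fin 3) F) := ⁅K₀, K₀⁆
    have hsimp : IsSimpleGroup (alternatingGroup (Fin 5)) := inferInstance
    have hA5 : commutator (alternatingGroup (Fin 5)) = ⊤ := by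
      rcases hsimp.eq_bot_or_eq_top_of_normal (commutator (alternatingGroup (Fin 5))) inferInstance with h1 | h1
      · exfalso
        have hc : ∀ a b : alternatingGroup (Fin 5), a * b = b * a := fun a b => by
          have h2 := Subgroup.commutator_mem_commutator (Subgroup.mem_top a) (Subgroup.mem_top b)
          rw [← commutator_def, h1, Subgroup.mem_bot] at h2
          exact mul_inv_eq_iff_eq_mul.1 (mul_inv_eq_one.1 h2)
        have := congrArg Subtype.val
          (hc ⟨Equiv.swap 0 1 * Equiv.swap 1 2, Equiv.Perm.mem_alternatingGroup.2 (by simp)⟩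
            ⟨Equiv.swap 0 1 * Equiv.swap 1 3, Equiv.Perm.mem_alternatingGroup.2 (by simp)⟩)
        exact absurd this (by decide)
      · exact h1
    have hK₀map : K₀.map (QuotientGroup.mk' (scalars (Fin 3) F)) = ι.range := by
      refine le_antisymm (by rintro _ ⟨x, hx, rfl⟩; exact hx.2) ?_
      rintro _ ⟨s, rfl⟩
      obtain ⟨x, hx, hxs⟩ := mem_socle.1 (e.symm (altFiveHom s)).2
      exact ⟨x, ⟨hx, ⟨s, hxs.symm⟩⟩, hxs⟩
    have hKmap : K.map (QuotientGroup.mk' (scalars (Fin 3) F)) = ι.range := by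
      rw [Subgroup.map_commutator, hK₀map, MonoidHom.range_eq_map, ← Subgroup.map_commutator, ← commutator_def, hA5]
    have hKle : K ≤ K₀ := Subgroup.commutator_le_self K₀
    have hK0dec : ∀ x ∈ K₀, ∃ k ∈ K, ∃ s ∈ scalars (Fin 3) F, x = k * s := by
      intro x hx
      have h1 : QuotientGroup.mk' (scalars (Fin 3) F) x ∈ K.map (QuotientGroup.mk' (scalars (Fin 3) F)) := by
        rw [hKmap, ← hK₀map]; exact Subgroup.mem_map_of_mem _ hx
      obtain ⟨k, hk, hkx⟩ := h1
      exact ⟨k, hk, k⁻¹ * x, QuotientGroup.eq.1 hkx, by group⟩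
    have hperf : ⁅K, K⁆ = K := by
      refine le_antisymm (Subgroup.commutator_le_self K) ?_
      show ⁅K₀, K₀⁆ ≤ ⁅K, K⁆
      rw [Subgroup.commutator_le]
      intro x hx y hy
      obtain ⟨a, ha, s, hs, rfl⟩ := hK0dec x hx
      obtain ⟨b, hb, r, hr, rfl⟩ := hK0dec y hy
      have hcs := scalars_comm hs
      have hcr := scalars_comm hr
      have e2 : ⁅a * s, b * r⁆ = ⁅a, b⁆ := by
        rw [commutatorElement_def, commutatorElement_def]
        calc (a * s) * (b * r) * (a * s)⁻¹ * (b * r)⁻¹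
            = a * (s * b) * r * s⁻¹ * a⁻¹ * r⁻¹ * b⁻¹ := by group
          _ = a * b * (s * r) * s⁻¹ * a⁻¹ * r⁻¹ * b⁻¹ := by rw [hcs b]; group
          _ = a * b * (r * a⁻¹) * r⁻¹ * b⁻¹ := by rw [hcs r]; group
          _ = _ := by rw [hcr a⁻¹]; group
      rw [e2]
      exact Subgroup.commutator_mem_commutator ha hb
    have hfix : ∀ x ∈ K₀, g * x * g⁻¹ * x⁻¹ ∈ scalars (Fin 3) F := by
      intro x hx
      obtain ⟨s, hs⟩ := hx.2
      have hcomm : t * (e.symm (altFiveHom s) : H) * t⁻¹ = (e.symm (altFiveHom s) : H) := by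
        rw [← act_apply hS.socle_normal e t (altFiveHom s), ht]
        have : MulAut.conjNormal firstSwap (altFiveHom s) = altFiveHom s := Subtype.ext (by
          rw [MulAut.conjNormal_apply]
          show firstSwap * fiveHom _ * firstSwap⁻¹ = fiveHom _
          rw [firstSwap_comm, mul_inv_cancel_right])
        rw [this]
      rw [← QuotientGroup.eq_one_iff, QuotientGroup.mk_mul, QuotientGroup.mk_mul, QuotientGroup.mk_mul,
        QuotientGroup.mk_inv, QuotientGroup.mk_inv, hg, ← show ρ (e.symm (altFiveHom s) : H) = (x : PG F) from hs,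
        ← map_inv, ← map_mul, ← map_mul, hcomm, mul_inv_cancel]
    have hcommK : ∀ x ∈ K, g * x = x * g := by
      have hle : K ≤ Subgroup.centralizer {g} := by
        show ⁅K₀, K₀⁆ ≤ _
        rw [Subgroup.commutator_le]
        intro a ha b hb
        rw [Subgroup.mem_centralizer_iff]
        intro h0 hh0
        rw [Set.mem_singleton_iff.1 hh0]
        have hcs := scalars_comm (hfix a ha)
        have hcr := scalars_comm (hfix b hb)
        refine mul_inv_eq_iff_eq_mul.1 ?_
        have e1 : g * a * g⁻¹ = (g * a * g⁻¹ * a⁻¹) * a := by group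
        have e2 : g * b * g⁻¹ = (g * b * g⁻¹ * b⁻¹) * b := by group
        have e3 : g * ⁅a, b⁆ * g⁻¹ = ⁅g * a * g⁻¹, g * b * g⁻¹⁆ := by simp [commutatorElement_def, mul_assoc]
        rw [e3, e1, e2]
        generalize g * a * g⁻¹ * a⁻¹ = s at hcs
        generalize g * b * g⁻¹ * b⁻¹ = r at hcr
        rw [commutatorElement_def, commutatorElement_def]
        calc (s * a) * (r * b) * (s * a)⁻¹ * (r * b)⁻¹
            = s * (a * r) * b * a⁻¹ * s⁻¹ * b⁻¹ * r⁻¹ := by group
          _ = (s * (r * a * b * a⁻¹)) * s⁻¹ * b⁻¹ * r⁻¹ := by rw [← hcr a]; group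
          _ = (r * (a * b * a⁻¹ * b⁻¹)) * r⁻¹ := by rw [hcs]; group
          _ = _ := by rw [hcr, mul_inv_cancel_right]
      exact fun x hx => Subgroup.mem_centralizer_iff.1 (hle hx) g rfl
    have hzK : ∀ z : K, z * z = 1 → (∀ k, z * k = k * z) → z = 1 := by
      intro z hzz hzc
      obtain ⟨s, hs⟩ := (hKle z.2).2
      have hscen : s ∈ Subgroup.center (alternatingGroup (Fin 5)) := by
        rw [Subgroup.mem_center_iff]
        intro r
        obtain ⟨k, hk, hkr⟩ : ι r ∈ K.map (QuotientGroup.mk' (scalars (Fin 3) F)) := hKmap ▸ ⟨r, rfl⟩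
        apply hι
        rw [map_mul, map_mul, hs, ← hkr]
        simp only [QuotientGroup.mk'_apply]
        rw [← QuotientGroup.mk_mul, ← QuotientGroup.mk_mul,
          show (z : GL (Fin 3) F) * k = k * z from congrArg Subtype.val (hzc ⟨k, hk⟩)]
      have hs1 : s = 1 := by
        rcases hsimp.eq_bot_or_eq_top_of_normal (Subgroup.center (alternatingGroup (Fin 5))) inferInstance with h1 | h1
        · rwa [h1, Subgroup.mem_bot] at hscen
        · have hc : commutator (alternatingGroup (Fin 5)) = ⊥ := by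
            rw [commutator_def, Subgroup.commutator_eq_bot_iff_le_centralizer]
            intro a _
            rw [Subgroup.mem_centralizer_iff]
            intro b _
            exact Subgroup.mem_center_iff.1 (h1 ▸ Subgroup.mem_top a) b
          rw [hA5] at hc
          haveI : Nontrivial (alternatingGroup (Fin 5)) := hsimp.toNontrivial
          exact absurd hc top_ne_bot
      rw [hs1, map_one] at hs
      exact Subtype.ext (scalar_mul_self_eq_one (hS.det_eq_one (hKle z.2).1)
        ((QuotientGroup.eq_one_iff (z : GL (Fin 3) F)).1 hs.symm) (congrArg Subtype.val hzz))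
    have hbot := no_homology h2F hg2 hgs hperf hcommK hzK
    have h1 : ι.range = ⊥ := by rw [← hKmap, hbot, Subgroup.map_bot]
    haveI : Nontrivial (alternatingGroup (Fin 5)) := hsimp.toNontrivial
    obtain ⟨a, ha⟩ := exists_ne (1 : alternatingGroup (Fin 5))
    have h2 : ι a ∈ ι.range := ⟨a, rfl⟩
    rw [h1, Subgroup.mem_bot] at h2
    exact ha ((map_eq_one_iff ι hι).1 h2)
  obtain ⟨f⟩ := equiv_of_socle_top e hall
  exact Or.inr (Or.inr (Or.inr (Or.inr (Or.inr (Or.inr (Or.inr (Or.inl
    ⟨hp5, even_iff_two_dvd.2 ((even_iff_two_dvd.1 heven).trans hS.dvd), Or.inr (Or.inl ⟨f⟩)⟩)))))))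

end CfsgLib.DimThreeSub
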