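import Cfsg.Prelude.Def_GeometricClasses
import Cfsg.Agent.Lib.TensorSymp93.Fusion2

/-!
# The similarity group of a conic

In odd characteristic the similarities of a non-degenerate quadratic form in three variables are,
modulo scalars, the group `PGL₂`, through the symmetric square.
-/

set_option autoImplicit false
set_option linter.unusedSectionVars false

namespace CfsgLib.DimThreeSub

open Matrix

variable {F : Type*} [Field F]

/-- The symmetric square of a `2 × 2` matrix. -/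
def symMat (A : Matrix (Fin 2) (Fin 2) F) : Matrix (Fin 3) (Fin 3) F :=
  !![A 0 0 * A 0 0, 2 * (A 0 0 * A 0 1), A 0 1 * A 0 1;
     A 0 0 * A 1 0, A 0 0 * A 1 1 + A 0 1 * A 1 0, A 0 1 * A 1 1;
     A 1 0 * A 1 0, 2 * (A 1 0 * A 1 1), A 1 1 * A 1 1]

theorem symMat_one : symMat (1 : Matrix (Fin 2) (Fin 2) F) = 1 := by
  ext i j
  fin_cases i <;> fin_cases j <;> simp [symMat]

theorem symMat_mul (A B : Matrix (Fin 2) (Fin 2) F) : symMat (A * B) = symMat A * symMat B := by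
  ext i j
  fin_cases i <;> fin_cases j <;>
    simp [symMat, Matrix.mul_apply, Fin.sum_univ_three, Fin.sum_univ_two] <;> ring

/-- The symmetric square on `GL₂`. -/
noncomputable def symHom (F : Type*) [Field F] : GL (Fin 2) F →* GL (Fin 3) F :=
  Units.map
    ({ toFun := symMat, map_one' := symMat_one, map_mul' := symMat_mul } :
      Matrix (Fin 2) (Fin 2) F →* Matrix (Fin 3) (Fin 3) F)

@[simp] theorem coe_symHom (A : GL (Fin 2) F) :
    ((symHom F A : GL (Fin 3) F) : Matrix (Fin 3) (Fin 3) F) = symMat (A : Matrix (Fin 2) (Fin 2) F) := rfl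

/-- The standard conic. -/
def conicQ (v : Fin 3 → F) : F := v 1 * v 1 - v 0 * v 2

theorem conicQ_sym (A : Matrix (Fin 2) (Fin 2) F) (v : Fin 3 → F) :
    conicQ (symMat A *ᵥ v) = A.det * A.det * conicQ v := by
  simp [conicQ, symMat, Matrix.mulVec, dotProduct, Fin.sum_univ_three, Matrix.det_fin_two]
  ring

theorem scalar_of_sym {A : Matrix (Fin 2) (Fin 2) F} (hA : A.det ≠ 0) {c : F}
    (h : symMat A = c • (1 : Matrix (Fin 3) (Fin 3) F)) : A = A 0 0 • (1 : Matrix (Fin 2) (Fin 2) F) := by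
  have h02 : A 0 1 * A 0 1 = 0 := by simpa [symMat] using congrFun (congrFun h 0) 2
  have h20 : A 1 0 * A 1 0 = 0 := by simpa [symMat] using congrFun (congrFun h 2) 0
  have b0 := mul_self_eq_zero.1 h02
  have c0 := mul_self_eq_zero.1 h20
  have h00 : A 0 0 * A 0 0 = c := by simpa [symMat] using congrFun (congrFun h 0) 0
  have h11 : A 0 0 * A 1 1 = c := by simpa [symMat, b0, c0] using congrFun (congrFun h 1) 1
  have ha : A 0 0 ≠ 0 := fun e => hA (by rw [Matrix.det_fin_two, e, b0]; ring)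
  have hd : A 1 1 = A 0 0 := mul_left_cancel₀ ha (h11.trans h00.symm)
  ext i j
  fin_cases i <;> fin_cases j <;> simp [b0, c0, hd]

/-- Similarities of the standard conic are symmetric squares up to scalars. -/
theorem exists_sym_of_similar (h2 : (2 : F) ≠ 0) (g : GL (Fin 3) F) {k : F} (hk : k ≠ 0)
    (hg : ∀ v, conicQ ((g : Matrix (Fin 3) (Fin 3) F) *ᵥ v) = k * conicQ v) :
    ∃ (A : GL (Fin 2) F) (μ : F), μ ≠ 0 ∧
      (g : Matrix (Fin 3) (Fin 3) F) = μ • symMat (A : Matrix (Fin 2) (Fin 2) F) := by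
  classical
  have hinj : ∀ (g : GL (Fin 3) F) (v : Fin 3 → F), (g : Matrix (Fin 3) (Fin 3) F) *ᵥ v = 0 → v = 0 :=
    fun g v hv => by
      have := congrArg (((g⁻¹ : GL (Fin 3) F) : Matrix (Fin 3) (Fin 3) F) *ᵥ ·) hv
      simpa [Matrix.mulVec_mulVec, ← Units.val_mul] using this
  -- an isotropic vector is the image of the first basis vector
  have hiso : ∀ w : Fin 3 → F, w ≠ 0 → conicQ w = 0 → ∃ (A : GL (Fin 2) F) (μ : F), μ ≠ 0 ∧
      w = μ • (symMat (A : Matrix (Fin 2) (Fin 2) F) *ᵥ Pi.single 0 1) := by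
    intro w hw hq
    unfold conicQ at hq
    by_cases h0 : w 0 = 0
    · have h1 : w 1 = 0 := mul_self_eq_zero.1 (by linear_combination hq + w 2 * h0)
      have h2' : w 2 ≠ 0 := fun e => hw (funext fun i => by fin_cases i <;> simp [h0, h1, e])
      refine ⟨GeneralLinearGroup.mkOfDetNeZero !![0, 1; 1, 0] (by simp [Matrix.det_fin_two]), w 2, h2', ?_⟩
      funext i
      fin_cases i <;> simp [symMat, h0, h1]
    · refine ⟨GeneralLinearGroup.mkOfDetNeZero !![1, 0; w 1 / w 0, 1] (by simp [Matrix.det_fin_two]), w 0, h0, ?_⟩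
      funext i
      fin_cases i <;> simp [symMat] <;> field_simp
      linear_combination -hq
  obtain ⟨A1, μ, hμ, hA1⟩ := hiso _ (fun h => by simpa using congrFun (hinj g (Pi.single 0 1) h) 0)
    (by rw [hg]; simp [conicQ])
  set g1 : GL (Fin 3) F := (symHom F A1)⁻¹ * g with hg1
  have hd1 : ∀ A : GL (Fin 2) F, (A : Matrix (Fin 2) (Fin 2) F).det ≠ 0 := fun A => A.det_ne_zero
  have hg1q : ∃ k1 : F, k1 ≠ 0 ∧ ∀ v, conicQ ((g1 : Matrix (Fin 3) (Fin 3) F) *ᵥ v) = k1 * conicQ v := by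
    refine ⟨((A1⁻¹ : GL (Fin 2) F) : Matrix (Fin 2) (Fin 2) F).det *
      ((A1⁻¹ : GL (Fin 2) F) : Matrix (Fin 2) (Fin 2) F).det * k,
      mul_ne_zero (mul_ne_zero (hd1 _) (hd1 _)) hk, fun v => ?_⟩
    rw [hg1, ← map_inv, Units.val_mul, ← Matrix.mulVec_mulVec, coe_symHom, conicQ_sym, hg, ← mul_assoc]
  obtain ⟨k1, hk1, hg1q⟩ := hg1q
  have he0 : (g1 : Matrix (Fin 3) (Fin 3) F) *ᵥ Pi.single 0 1 = μ • Pi.single 0 1 := by
    rw [hg1, Units.val_mul, ← Matrix.mulVec_mulVec, hA1, Matrix.mulVec_smul, Matrix.mulVec_mulVec,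
      ← coe_symHom, ← Units.val_mul, inv_mul_cancel, Units.val_one, Matrix.one_mulVec]
  -- the third basis vector
  have hinj0 : ∀ c : F, (g1 : Matrix (Fin 3) (Fin 3) F) *ᵥ Pi.single 2 1 ≠ c • Pi.single 0 1 := by
    intro c h
    have h0 : (g1 : Matrix (Fin 3) (Fin 3) F) *ᵥ (Pi.single 2 1 - (c / μ) • Pi.single 0 1) = 0 := by
      rw [Matrix.mulVec_sub, Matrix.mulVec_smul, he0, h, smul_smul, div_mul_cancel₀ _ hμ, sub_self]
    simpa using congrFun (hinj g1 _ h0) 2
  set w := (g1 : Matrix (Fin 3) (Fin 3) F) *ᵥ Pi.single 2 1 with hw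
  have hwq : w 1 * w 1 - w 0 * w 2 = 0 := by
    have := hg1q (Pi.single 2 1)
    rw [← hw] at this
    simpa [conicQ] using this
  have hw2 : w 2 ≠ 0 := fun e => by
    have h1 : w 1 = 0 := mul_self_eq_zero.1 (by linear_combination hwq + w 0 * e)
    exact hinj0 (w 0) (funext fun i => by fin_cases i <;> simp [h1, e])
  let A2 : GL (Fin 2) F :=
    GeneralLinearGroup.mkOfDetNeZero !![1, w 1 / w 2; 0, 1] (by simp [Matrix.det_fin_two])
  set g2 : GL (Fin 3) F := (symHom F A2)⁻¹ * g1 with hg2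
  have hS0 : symMat (A2 : Matrix (Fin 2) (Fin 2) F) *ᵥ Pi.single 0 1 = Pi.single 0 1 := by
    funext i; fin_cases i <;> simp [symMat, A2]
  have hS2 : w = w 2 • (symMat (A2 : Matrix (Fin 2) (Fin 2) F) *ᵥ Pi.single 2 1) := by
    funext i
    fin_cases i <;> simp [symMat, A2] <;> field_simp
    linear_combination -hwq
  have hf0 : (g2 : Matrix (Fin 3) (Fin 3) F) *ᵥ Pi.single 0 1 = μ • Pi.single 0 1 := by
    rw [hg2, Units.val_mul, ← Matrix.mulVec_mulVec, he0]
    nth_rw 1 [← hS0]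
    rw [← Matrix.mulVec_smul, Matrix.mulVec_mulVec, ← coe_symHom, ← Units.val_mul, inv_mul_cancel,
      Units.val_one, Matrix.one_mulVec]
  have hf2 : (g2 : Matrix (Fin 3) (Fin 3) F) *ᵥ Pi.single 2 1 = w 2 • Pi.single 2 1 := by
    rw [hg2, Units.val_mul, ← Matrix.mulVec_mulVec, ← hw]
    nth_rw 1 [hS2]
    rw [Matrix.mulVec_smul, Matrix.mulVec_mulVec, ← coe_symHom, ← Units.val_mul, inv_mul_cancel,
      Units.val_one, Matrix.one_mulVec]
  obtain ⟨k2, hk2, hg2q⟩ : ∃ k2 : F, k2 ≠ 0 ∧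
      ∀ v, conicQ ((g2 : Matrix (Fin 3) (Fin 3) F) *ᵥ v) = k2 * conicQ v := by
    refine ⟨((A2⁻¹ : GL (Fin 2) F) : Matrix (Fin 2) (Fin 2) F).det *
      ((A2⁻¹ : GL (Fin 2) F) : Matrix (Fin 2) (Fin 2) F).det * k1,
      mul_ne_zero (mul_ne_zero (hd1 _) (hd1 _)) hk1, fun v => ?_⟩
    rw [hg2, ← map_inv, Units.val_mul, ← Matrix.mulVec_mulVec, coe_symHom, conicQ_sym, hg1q, ← mul_assoc]
  set M := (g2 : Matrix (Fin 3) (Fin 3) F) with hM
  have c0 : ∀ i, M i 0 = μ * (Pi.single 0 1 : Fin 3 → F) i := fun i => by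
    have := congrFun hf0 i; simpa [Matrix.mulVec_single] using this
  have c2 : ∀ i, M i 2 = w 2 * (Pi.single 2 1 : Fin 3 → F) i := fun i => by
    have := congrFun hf2 i; simpa [Matrix.mulVec_single] using this
  have q1 := hg2q ![1, 1, 0]
  have q2 := hg2q ![0, 1, 1]
  have q3 := hg2q ![0, 1, 0]
  have q4 := hg2q ![1, 0, 1]
  simp [conicQ, Matrix.mulVec, dotProduct, Fin.sum_univ_three, c0, c2] at q1 q2 q3 q4
  have hz : M 2 1 = 0 := by
    have : μ * M 2 1 = 0 := by linear_combination q3 - q1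
    exact (mul_eq_zero.1 this).resolve_left hμ
  have hx : M 0 1 = 0 := by
    have : w 2 * M 0 1 = 0 := by linear_combination q3 - q2
    exact (mul_eq_zero.1 this).resolve_left hw2
  have hb : M 1 1 * M 1 1 = μ * w 2 := by
    rw [hx, hz] at q3
    linear_combination q3 - q4
  have hb0 : M 1 1 ≠ 0 := fun e => mul_ne_zero hμ hw2 (by rw [← hb, e, mul_zero])
  let D : GL (Fin 2) F :=
    GeneralLinearGroup.mkOfDetNeZero !![1, 0; 0, M 1 1 / μ] (by simp [Matrix.det_fin_two, hb0, hμ])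
  have hMd : M = μ • symMat (D : Matrix (Fin 2) (Fin 2) F) := by
    ext i j
    fin_cases i <;> fin_cases j <;> simp [symMat, D, c0, c2, hx, hz] <;> field_simp
    linear_combination -hb
  refine ⟨A1 * (A2 * D), μ, hμ, ?_⟩
  have hg' : g = symHom F A1 * (symHom F A2 * g2) := by rw [hg2, hg1]; group
  calc (g : Matrix (Fin 3) (Fin 3) F) = symMat (A1 : Matrix (Fin 2) (Fin 2) F) *
        (symMat (A2 : Matrix (Fin 2) (Fin 2) F) * M) := by rw [hg']; rfl
    _ = μ • symMat ((A1 * (A2 * D) : GL (Fin 2) F) : Matrix (Fin 2) (Fin 2) F) := by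
      rw [hMd, Units.val_mul, Units.val_mul, symMat_mul, symMat_mul, Matrix.mul_smul, Matrix.mul_smul]

/-- A non-degenerate form in three variables is a multiple of the standard conic in a suitable basis. -/
theorem exists_conic_frame [Fintype F] (h2 : (2 : F) ≠ 0) {Q : (Fin 3 → F) → F}
    (hQ : Cfsg.Geo.IsNondegenerateQuadraticForm Q) :
    ∃ (B : GL (Fin 3) F) (c : F), c ≠ 0 ∧ ∀ v, Q ((B : Matrix (Fin 3) (Fin 3) F) *ᵥ v) = c * conicQ v := by
  classical
  have hb := hQ.polar_bilinear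
  let b : LinearMap.BilinForm F (Fin 3 → F) :=
    LinearMap.mk₂ F (QuadraticMap.polar Q) hb.add_left (fun c x y => by rw [hb.smul_left]; rfl)
      (fun x y z => hb.add_right x y z) (fun c x y => by rw [hb.smul_right]; rfl)
  have hbs : ∀ x y, b x y = b y x := fun x y => QuadraticMap.polar_comm _ x y
  have hbb : ∀ x y, b x y = Q (x + y) - Q x - Q y := fun x y => rfl
  have hQ2 : ∀ x, b x x = 2 * Q x := fun x => by
    rw [hbb, ← two_smul F x, hQ.smul]; ring
  obtain ⟨e, he, hee⟩ := CfsgLib.TensorSymp93.exists_isotropic_symm (n := 3) le_rfl h2 b hbs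
  have hQe : Q e = 0 := by
    rw [hQ2] at hee
    exact (mul_eq_zero.1 hee).resolve_left h2
  obtain ⟨f0, hf0⟩ : ∃ f0, b e f0 ≠ 0 := (hQ.nondegenerate e he).2
  obtain ⟨f, hef, hQf⟩ : ∃ f, b e f ≠ 0 ∧ Q f = 0 := by
    refine ⟨f0 - (Q f0 / b e f0) • e, ?_, ?_⟩
    · rw [map_sub, map_smul, hee, smul_zero, sub_zero]; exact hf0
    · set t := Q f0 / b e f0
      have h : Q (f0 + (-t) • e) = Q f0 + Q ((-t) • e) + b f0 ((-t) • e) := by rw [hbb]; ring
      rw [sub_eq_add_neg, ← neg_smul, h, hQ.smul, hQe, map_smul, hbs f0 e, smul_eq_mul, mul_zero, add_zero]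
      simp only [t]; field_simp; ring
  have hlt : Module.finrank F (F × F) < Module.finrank F (Fin 3 → F) := by
    rw [Module.finrank_prod, Module.finrank_self, Module.finrank_fin_fun]; norm_num
  obtain ⟨u, hu, hu0⟩ := (Submodule.ne_bot_iff _).1
    (LinearMap.ker_ne_bot_of_finrank_lt (f := (b e).prod (b f)) hlt)
  rw [LinearMap.mem_ker] at hu
  have heu : b e u = 0 := congrArg Prod.fst hu
  have hfu : b f u = 0 := congrArg Prod.snd hu
  have hff : b f f = 0 := by rw [hQ2, hQf, mul_zero]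
  have hind : ∀ x y z : F, x • e + y • u + z • f = 0 → x = 0 ∧ y = 0 ∧ z = 0 := by
    intro x y z h
    have hz : z = 0 := by
      have := congrArg (b e) h
      simp [hee, heu] at this
      exact this.resolve_right hef
    have hx : x = 0 := by
      have := congrArg (b f) h
      simp [hff, hfu, hbs f e, hz] at this
      exact this.resolve_right hef
    exact ⟨hx, (smul_eq_zero.1 (by simpa [hx, hz] using h)).resolve_right hu0, hz⟩
  have huniv : ∀ M : Matrix (Fin 3) (Fin 3) F, (∀ v, M *ᵥ v = 0 → v = 0) → M.det ≠ 0 := fun M hM hd => by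
    obtain ⟨v, hv, hv0⟩ := Matrix.exists_mulVec_eq_zero_iff.2 hd
    exact hv (hM v hv0)
  have hcomb : ∀ (x y z : Fin 3 → F) (v : Fin 3 → F),
      (Matrix.of fun i j => (![x, y, z] : Fin 3 → Fin 3 → F) j i) *ᵥ v = v 0 • x + v 1 • y + v 2 • z := by
    intro x y z v
    funext i
    simp [Matrix.mulVec, dotProduct, Fin.sum_univ_three]
    ring
  have hQu : Q u ≠ 0 := by
    intro h0
    obtain ⟨z, hz⟩ := (hQ.nondegenerate u hu0).2
    let M0 := Matrix.of fun i j => (![e, u, f] : Fin 3 → Fin 3 → F) j i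
    have hdet : M0.det ≠ 0 := huniv M0 fun v hv => by
      rw [hcomb] at hv
      obtain ⟨a, b, c⟩ := hind _ _ _ hv
      funext i; fin_cases i <;> assumption
    have hzv : z = M0 *ᵥ (M0⁻¹ *ᵥ z) := by
      rw [Matrix.mulVec_mulVec, Matrix.mul_nonsing_inv _ hdet.isUnit, Matrix.one_mulVec]
    refine hz ?_
    show b u z = 0
    rw [hzv, hcomb]
    simp [hbs u e, heu, hbs u f, hfu, hQ2, h0]
  set s := -(Q u / b e f) with hs
  have hs0 : s ≠ 0 := neg_ne_zero.2 (div_ne_zero hQu hef)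
  let M := Matrix.of fun i j => (![e, u, s • f] : Fin 3 → Fin 3 → F) j i
  have hdet : M.det ≠ 0 := huniv M fun v hv => by
    rw [hcomb, smul_smul] at hv
    obtain ⟨a, b, c⟩ := hind _ _ _ hv
    funext i; fin_cases i
    · exact a
    · exact b
    · exact (mul_eq_zero.1 c).resolve_right hs0
  refine ⟨GeneralLinearGroup.mkOfDetNeZero M hdet, Q u, hQu, fun v => ?_⟩
  show Q (M *ᵥ v) = _
  rw [hcomb]
  have key : ∀ x y : Fin 3 → F, Q (x + y) = Q x + Q y + b x y := fun x y => by rw [hbb]; ring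
  rw [key, key, hQ.smul, hQ.smul, smul_smul, hQ.smul, hQe, hQf]
  simp [hbs u f, hfu, heu, hs, conicQ]
  field_simp
  ring

/-- The symmetric square into `GL₃` modulo scalars. -/
noncomputable def symProj (F : Type*) [Field F] : GL (Fin 2) F →* GL (Fin 3) F ⧸ Cfsg.Geo.scalars (Fin 3) F :=
  (QuotientGroup.mk' _).comp (symHom F)

theorem mem_center_two {A : GL (Fin 2) F} :
    A ∈ Subgroup.center (GL (Fin 2) F) ↔ ∃ c : F, (A : Matrix (Fin 2) (Fin 2) F) = c • 1 := by
  rw [GeneralLinearGroup.center_eq_range_scalar]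
  constructor
  · rintro ⟨c, rfl⟩
    exact ⟨c, by simp [GeneralLinearGroup.coe_scalar, Matrix.smul_one_eq_diagonal]⟩
  · rintro ⟨c, hc⟩
    have hc0 : c ≠ 0 := fun e => A.det_ne_zero (by rw [hc, e, zero_smul]; simp)
    exact ⟨Units.mk0 c hc0, Units.ext (by simp [GeneralLinearGroup.coe_scalar, hc, Matrix.smul_one_eq_diagonal])⟩

theorem ker_symProj : (symProj F).ker = Subgroup.center (GL (Fin 2) F) := by
  ext A
  rw [MonoidHom.mem_ker, mem_center_two]
  show QuotientGroup.mk (symHom F A) = (1 : GL (Fin 3) F ⧸ _) ↔ _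
  rw [QuotientGroup.eq_one_iff, Cfsg.Geo.mem_scalars_iff]
  constructor
  · rintro ⟨c, hc⟩
    exact ⟨_, scalar_of_sym A.det_ne_zero hc⟩
  · rintro ⟨c, hc⟩
    have hc0 : c ≠ 0 := fun e => A.det_ne_zero (by rw [hc, e, zero_smul]; simp)
    refine ⟨Units.mk0 (c * c) (mul_ne_zero hc0 hc0), ?_⟩
    rw [coe_symHom, hc]
    ext i j
    fin_cases i <;> fin_cases j <;> simp [symMat]

/-- **The similarity group of a conic is `PGL₂` modulo scalars.** -/
theorem exists_proj_two [Fintype F] (h2 : (2 : F) ≠ 0) {Q : (Fin 3 → F) → F}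
    (hQ : Cfsg.Geo.IsNondegenerateQuadraticForm Q) :
    ∃ ψ : Cfsg.Geo.quadSimilarityGroup Q →* ProjGenLinGroup (Fin 2) F,
      ∀ g, ψ g = 1 ↔ (g : GL (Fin 3) F) ∈ Cfsg.Geo.scalars (Fin 3) F := by
  obtain ⟨B, c, hc, hB⟩ := exists_conic_frame h2 hQ
  let j : ProjGenLinGroup (Fin 2) F →* GL (Fin 3) F ⧸ Cfsg.Geo.scalars (Fin 3) F :=
    QuotientGroup.lift _ (symProj F) ker_symProj.ge
  have hj : Function.Injective j := (injective_iff_map_eq_one _).2 fun x hx => by
    induction x using ProjGenLinGroup.induction_on with | mk A =>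
    exact ProjGenLinGroup.mk_eq_one.2 (ker_symProj.le hx)
  let π : Cfsg.Geo.quadSimilarityGroup Q →* GL (Fin 3) F ⧸ Cfsg.Geo.scalars (Fin 3) F :=
    (QuotientGroup.mk' _).comp
      ((MulAut.conj B⁻¹).toMonoidHom.comp (Cfsg.Geo.quadSimilarityGroup Q).subtype)
  have hrange : ∀ g, π g ∈ j.range := by
    rintro ⟨g, k, hk⟩
    have hsim : ∀ v, conicQ (((B⁻¹ * g * B : GL (Fin 3) F) : Matrix (Fin 3) (Fin 3) F) *ᵥ v) = (k : F) * conicQ v := by
      intro v
      refine mul_left_cancel₀ hc ?_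
      rw [← hB, Units.val_mul, Units.val_mul, Matrix.mulVec_mulVec, ← Matrix.mul_assoc, ← Matrix.mul_assoc,
        ← Units.val_mul B, mul_inv_cancel, Units.val_one, Matrix.one_mul, ← Matrix.mulVec_mulVec, hk, hB]
      ring
    obtain ⟨A, μ, hμ, hA⟩ := exists_sym_of_similar h2 _ k.ne_zero hsim
    refine ⟨ProjGenLinGroup.mk A, ?_⟩
    show QuotientGroup.mk (symHom F A) = QuotientGroup.mk (B⁻¹ * g * B⁻¹⁻¹)
    rw [inv_inv, QuotientGroup.eq, Cfsg.Geo.mem_scalars_iff]
    refine ⟨Units.mk0 μ hμ, ?_⟩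
    rw [Units.val_mul, hA, Matrix.mul_smul, ← coe_symHom, ← Units.val_mul, inv_mul_cancel]
    rfl
  refine ⟨(MonoidHom.ofInjective hj).symm.toMonoidHom.comp (π.codRestrict j.range hrange), fun g => ?_⟩
  rw [MonoidHom.comp_apply, MulEquiv.coe_toMonoidHom, MulEquiv.map_eq_one_iff, Subtype.ext_iff]
  show QuotientGroup.mk (B⁻¹ * (g : GL (Fin 3) F) * B⁻¹⁻¹) = (1 : GL (Fin 3) F ⧸ Cfsg.Geo.scalars (Fin 3) F) ↔ _
  rw [QuotientGroup.eq_one_iff, inv_inv]
  constructor
  · intro h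
    have := Cfsg.Geo.scalars_normal.conj_mem _ h B
    rwa [show B * (B⁻¹ * (g : GL (Fin 3) F) * B) * B⁻¹ = g by group] at this
  · intro h
    have := Cfsg.Geo.scalars_normal.conj_mem _ h B⁻¹
    rwa [inv_inv] at this

end CfsgLib.DimThreeSub
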