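import Cfsg.Agent.Lib.Geo.AschPrimeIrred
import Cfsg.Agent.Lib.ConstDiff.Burnside

/-!
# The socle of a three-dimensional group without abelian normal subgroups

In odd characteristic a subgroup of `SL₃` without non-scalar abelian-modulo-scalars normal subgroups
has a perfect absolutely irreducible normal subgroup which is simple modulo scalars and has trivial
centraliser modulo scalars.
-/

set_option autoImplicit false
set_option linter.unusedSectionVars false

namespace CfsgLib.DimThreeSub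

open Cfsg Cfsg.Geo Matrix CfsgLib.Geo.Asch
open scoped MatrixGroups commutatorElement

universe u

variable {F : Type u} [Field F] [Fintype F]

/-- A finite perfect group without central involutions has no faithful two-dimensional representation
in odd characteristic. -/
theorem eq_one_of_rep_two {N : Type u} [Group N] [Finite N] {U : Type*} [AddCommGroup U] [Module F U]
    [FiniteDimensional F U] (hU : Module.finrank F U = 2) (h2 : (2 : F) ≠ 0)
    (hperf : commutator N = ⊤) (ρ : N →* Module.End F U) (hρ : Function.Injective ρ)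
    (hz : ∀ z : N, z * z = 1 → (∀ g, z * g = g * z) → z = 1) (x : N) : x = 1 := by
  by_cases hev : 2 ∣ Nat.card N
  · exfalso
    haveI : Fact (Nat.Prime 2) := ⟨Nat.prime_two⟩
    obtain ⟨z, hz2⟩ := exists_prime_orderOf_dvd_card' 2 hev
    have hzz : z * z = 1 := by rw [← pow_two, ← hz2, pow_orderOf_eq_one]
    let b := Module.finBasisOfFinrankEq F U hU
    let μ : N →* Matrix (Fin 2) (Fin 2) F :=
      (LinearMap.toMatrixAlgEquiv b).toAlgHom.toRingHom.toMonoidHom.comp ρ
    have hμ : Function.Injective μ := (LinearMap.toMatrixAlgEquiv b).injective.comp hρ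
    let d : N →* Fˣ := MonoidHom.toHomUnits ((Matrix.detMonoidHom (n := Fin 2) (R := F)).comp μ)
    have hd : ∀ g, (μ g).det = 1 := fun g => by
      have h1 : g ∈ d.ker := Abelianization.commutator_subset_ker d (hperf ▸ Subgroup.mem_top g)
      exact congrArg Units.val (MonoidHom.mem_ker.1 h1)
    have hsc : ∀ M : Matrix (Fin 2) (Fin 2) F, M.det = 1 → M * M = 1 → ∀ X, M * X = X * M := by
      intro M hdet hMM X
      have e00 := congrFun (congrFun hMM 0) 0
      have e01 := congrFun (congrFun hMM 0) 1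
      have e10 := congrFun (congrFun hMM 1) 0
      have e11 := congrFun (congrFun hMM 1) 1
      simp [Matrix.mul_apply, Fin.sum_univ_two] at e00 e01 e10 e11
      rw [Matrix.det_fin_two] at hdet
      have ha : M 0 0 * (M 0 0 + M 1 1) = 2 := by linear_combination e00 + hdet
      have hs : M 0 0 + M 1 1 ≠ 0 := fun h => h2 (by rw [← ha, h, mul_zero])
      have hb : M 0 1 = 0 := by
        have : (M 0 0 + M 1 1) * M 0 1 = 0 := by linear_combination e01
        exact (mul_eq_zero.1 this).resolve_left hs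
      have hc : M 1 0 = 0 := by
        have : (M 0 0 + M 1 1) * M 1 0 = 0 := by linear_combination e10
        exact (mul_eq_zero.1 this).resolve_left hs
      have hd' : M 1 1 = M 0 0 := by
        have : (M 0 0 + M 1 1) * (M 1 1 - M 0 0) = 0 := by linear_combination e11 - e00
        exact sub_eq_zero.1 ((mul_eq_zero.1 this).resolve_left hs)
      have : M = M 0 0 • (1 : Matrix (Fin 2) (Fin 2) F) := by
        ext i j; fin_cases i <;> fin_cases j <;> simp [hb, hc, hd']
      rw [this, Matrix.smul_mul, Matrix.mul_smul, one_mul, mul_one]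
    have : z = 1 := hz z hzz fun g => hμ (by
      rw [map_mul, map_mul]
      exact hsc _ (hd z) (by rw [← map_mul, hzz, map_one]) _)
    rw [this, orderOf_one] at hz2
    omega
  · by_contra hx
    haveI := CfsgLib.ConstDiff.isSolvable_of_odd_card hev
    haveI : Nontrivial N := ⟨⟨x, 1, hx⟩⟩
    exact (Group.IsSolvable.commutator_lt_top_of_nontrivial N).ne hperf

theorem commutator_subtype_top {G : Type*} [Group G] {N : Subgroup G} (h : ⁅N, N⁆ = N) :
    commutator N = ⊤ := by
  refine Subgroup.map_injective N.subtype_injective ?_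
  rw [commutator_def, Subgroup.map_commutator, ← MonoidHom.range_eq_map, Subgroup.range_subtype, h]

/-- A conjugate of a scalar-trivial element. -/
theorem scalar_mul_self_eq_one {g : GL (Fin 3) F} (hdet : (g : Matrix (Fin 3) (Fin 3) F).det = 1)
    (hg : g ∈ scalars (Fin 3) F) (hgg : g * g = 1) : g = 1 := by
  obtain ⟨c, hc⟩ := (mem_scalars_iff g).1 hg
  have h3 : (c : F) ^ 3 = 1 := by
    rw [hc, Matrix.det_smul, Matrix.det_one, mul_one, Fintype.card_fin] at hdet
    exact hdet
  have h2 : (c : F) * c = 1 := by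
    have := congrArg (fun x : GL (Fin 3) F => (x : Matrix (Fin 3) (Fin 3) F) 0 0) hgg
    rw [Units.val_mul, hc, Matrix.smul_mul, one_mul, smul_smul] at this
    simpa using this
  have h1 : (c : F) = 1 := by linear_combination h3 - (c : F) * h2
  apply Units.ext
  rw [hc, h1, one_smul, Units.val_one]

set_option maxHeartbeats 2000000 in
/-- Simplicity and centraliser modulo scalars. -/
theorem simple_facts {ι : Type} [Fintype ι] [DecidableEq ι] [Nonempty ι] {H N : Subgroup (GL ι F)}
    (hspan : algOf N = ⊤) (hperf : ⁅N, N⁆ = N) (hns : ¬ N ≤ scalars ι F)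
    (hsimple : ∀ K : Subgroup (GL ι F), K ≤ N → (∀ g ∈ N, ∀ x ∈ K, g * x * g⁻¹ ∈ K) → ¬ K ≤ scalars ι F → K = N) :
    IsSimpleGroup (N ⧸ (scalars ι F).subgroupOf N) ∧ ¬ IsMulCommutative (N ⧸ (scalars ι F).subgroupOf N) ∧
      ∀ h ∈ H, (∀ x ∈ N, h * x * h⁻¹ * x⁻¹ ∈ scalars ι F) → h ∈ scalars ι F := by
  classical
  haveI := scalars_normal (ι := ι) (F := F)
  haveI hnt : Nontrivial (N ⧸ (scalars ι F).subgroupOf N) := by
    rw [QuotientGroup.nontrivial_iff, ne_eq, Subgroup.subgroupOf_eq_top]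
    exact hns
  refine ⟨?_, ?_, ?_⟩
  · refine { eq_bot_or_eq_top_of_normal := fun K hK => ?_ }
    let π := QuotientGroup.mk' ((scalars ι F).subgroupOf N)
    let L := (K.comap π).map N.subtype
    have hLN : L ≤ N := Subgroup.map_subtype_le _
    have hLinv : ∀ g ∈ N, ∀ x ∈ L, g * x * g⁻¹ ∈ L := by
      rintro g hg _ ⟨x, hx, rfl⟩
      refine ⟨⟨g, hg⟩ * x * ⟨g, hg⟩⁻¹, ?_, rfl⟩
      have := hK.conj_mem _ hx (π ⟨g, hg⟩)
      simpa [Subgroup.mem_comap, map_mul, map_inv] using this
    by_cases hLs : L ≤ scalars ι F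
    · left
      rw [Subgroup.eq_bot_iff_forall]
      intro q hq
      obtain ⟨x, rfl⟩ := QuotientGroup.mk'_surjective _ q
      rw [QuotientGroup.mk'_apply, QuotientGroup.eq_one_iff, Subgroup.mem_subgroupOf]
      exact hLs ⟨x, hq, rfl⟩
    · right
      have hLeq := hsimple L hLN hLinv hLs
      rw [Subgroup.eq_top_iff']
      intro q
      obtain ⟨x, rfl⟩ := QuotientGroup.mk'_surjective _ q
      have : (x : GL ι F) ∈ L := by rw [hLeq]; exact x.2
      obtain ⟨y, hy, e⟩ := this
      rw [← Subtype.ext e]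
      exact hy
  · intro hc
    apply hns
    rw [← hperf, Subgroup.commutator_le]
    intro x hx y hy
    have h1 := hc.is_comm.comm (QuotientGroup.mk' ((scalars ι F).subgroupOf N) ⟨x⁻¹, inv_mem hx⟩)
      (QuotientGroup.mk' ((scalars ι F).subgroupOf N) ⟨y⁻¹, inv_mem hy⟩)
    rw [← map_mul, ← map_mul, QuotientGroup.mk'_eq_mk'] at h1
    obtain ⟨z, hz, h2⟩ := h1
    have h4 : x⁻¹ * y⁻¹ * (z : GL ι F) = y⁻¹ * x⁻¹ := congrArg Subtype.val h2
    have h5 : (z : GL ι F) = y * x * y⁻¹ * x⁻¹ := by
      calc (z : GL ι F) = y * x * (x⁻¹ * y⁻¹ * (z : GL ι F)) := by group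
        _ = y * x * (y⁻¹ * x⁻¹) := by rw [h4]
        _ = _ := by group
    have h6 := (scalars ι F).inv_mem (Subgroup.mem_subgroupOf.1 hz)
    rw [h5] at h6
    simpa [commutatorElement_def, mul_assoc] using h6
  · intro h hh hc
    refine mem_scalars_of_commute hspan fun x hx => ?_
    have hle : ⁅N, N⁆ ≤ Subgroup.centralizer {h} := by
      rw [Subgroup.commutator_le]
      intro a ha b hb
      rw [Subgroup.mem_centralizer_iff]
      intro h₀ h₀h
      rw [show h₀ = h from h₀h]
      have e1 : h * a * h⁻¹ = (h * a * h⁻¹ * a⁻¹) * a := by group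
      have e2 : h * b * h⁻¹ = (h * b * h⁻¹ * b⁻¹) * b := by group
      have key : h * ⁅a, b⁆ * h⁻¹ = ⁅a, b⁆ := by
        have e3 : h * ⁅a, b⁆ * h⁻¹ = ⁅h * a * h⁻¹, h * b * h⁻¹⁆ := by
          simp [commutatorElement_def, mul_assoc]
        rw [e3, e1, e2]
        have hs := scalars_comm (hc a ha)
        have ht := scalars_comm (hc b hb)
        generalize h * a * h⁻¹ * a⁻¹ = s at hs
        generalize h * b * h⁻¹ * b⁻¹ = t at ht
        rw [commutatorElement_def, commutatorElement_def, _root_.mul_inv_rev, _root_.mul_inv_rev]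
        calc s * a * (t * b) * (a⁻¹ * s⁻¹) * (b⁻¹ * t⁻¹)
            = s * (a * t) * b * a⁻¹ * s⁻¹ * b⁻¹ * t⁻¹ := by group
          _ = s * (t * a) * b * a⁻¹ * s⁻¹ * b⁻¹ * t⁻¹ := by rw [← ht a]
          _ = (s * (t * a * b * a⁻¹)) * s⁻¹ * b⁻¹ * t⁻¹ := by group
          _ = ((t * a * b * a⁻¹) * s) * s⁻¹ * b⁻¹ * t⁻¹ := by rw [hs]
          _ = (t * (a * b * a⁻¹ * b⁻¹)) * t⁻¹ := by group
          _ = ((a * b * a⁻¹ * b⁻¹) * t) * t⁻¹ := by rw [ht]
          _ = a * b * a⁻¹ * b⁻¹ := by group
      exact mul_inv_eq_iff_eq_mul.1 key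
    rw [hperf] at hle
    exact Subgroup.mem_centralizer_iff.1 (hle hx) h rfl

/-- **The socle.** -/
theorem exists_socle (h2 : (2 : F) ≠ 0) (L : Subgroup (GL (Fin 3) F))
    (hdet : ∀ g ∈ L, (g : Matrix (Fin 3) (Fin 3) F).det = 1) (hns : ¬ L ≤ scalars (Fin 3) F)
    (hab : ∀ K : Subgroup (GL (Fin 3) F), K ≤ L → (∀ g ∈ L, ∀ x ∈ K, g * x * g⁻¹ ∈ K) →
      (∀ x ∈ K, ∀ y ∈ K, x * y * x⁻¹ * y⁻¹ ∈ scalars (Fin 3) F) → K ≤ scalars (Fin 3) F) :
    ∃ P : Subgroup (GL (Fin 3) F), P ≤ L ∧ (∀ g ∈ L, ∀ x ∈ P, g * x * g⁻¹ ∈ P) ∧ ⁅P, P⁆ = P ∧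
      ¬ P ≤ scalars (Fin 3) F ∧ algOf P = ⊤ ∧ IsSimpleGroup (P ⧸ (scalars (Fin 3) F).subgroupOf P) ∧
      ¬ IsMulCommutative (P ⧸ (scalars (Fin 3) F).subgroupOf P) ∧
      ∀ h ∈ L, (∀ x ∈ P, h * x * h⁻¹ * x⁻¹ ∈ scalars (Fin 3) F) → h ∈ scalars (Fin 3) F := by
  classical
  obtain ⟨N, ⟨hNL, hNinv, hNns⟩, hNmin⟩ := (Set.toFinite {K : Subgroup (GL (Fin 3) F) | K ≤ L ∧
      (∀ g ∈ L, ∀ x ∈ K, g * x * g⁻¹ ∈ K) ∧ ¬ K ≤ scalars (Fin 3) F}).exists_minimal
    ⟨L, le_rfl, fun g hg x hx => L.mul_mem (L.mul_mem hg hx) (L.inv_mem hg), hns⟩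
  have hmin : ∀ K : Subgroup (GL (Fin 3) F), K ≤ N → (∀ g ∈ L, ∀ x ∈ K, g * x * g⁻¹ ∈ K) →
      ¬ K ≤ scalars (Fin 3) F → K = N :=
    fun K h1 h2 h3 => le_antisymm h1 (hNmin ⟨h1.trans hNL, h2, h3⟩ h1)
  have hcl : ¬ ∀ x ∈ N, ∀ y ∈ N, x * y * x⁻¹ * y⁻¹ ∈ scalars (Fin 3) F :=
    fun h => hNns (hab N hNL hNinv h)
  have hperf : ⁅N, N⁆ = N := by
    refine hmin _ (Subgroup.commutator_le_self N) ?_ ?_
    · intro g hg x hx
      have hmap : (⁅N, N⁆).map (MulAut.conj g).toMonoidHom ≤ ⁅N, N⁆ := by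
        rw [Subgroup.map_commutator]
        apply Subgroup.commutator_mono <;>
        · rintro _ ⟨a, ha, rfl⟩; exact hNinv g hg a ha
      exact hmap ⟨x, hx, rfl⟩
    · intro hle
      exact hcl fun x hx y hy => hle (Subgroup.commutator_mem_commutator hx hy)
  have hperfT : commutator N = ⊤ := commutator_subtype_top hperf
  -- normal solvable subgroups of `N` are scalar
  have hsol : ∀ (K : Subgroup N) [K.Normal], Group.IsSolvable K → ∀ x ∈ K, (x : GL (Fin 3) F) ∈ scalars (Fin 3) F := by
    intro K _ hK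
    obtain ⟨R, hKR, hR⟩ := Finite.exists_le_maximal
      (p := fun R : Subgroup N => R.Normal ∧ Group.IsSolvable R) (a := K) ⟨inferInstance, hK⟩
    haveI := hR.1.1
    have hmax : ∀ T : Subgroup N, T.Normal → Group.IsSolvable T → T ≤ R := by
      intro T hT hTs
      haveI := hT
      haveI := hR.1.2
      haveI := hTs
      haveI : Group.IsSolvable (R ⊔ T : Subgroup N) := by
        let f : T →* (R ⊔ T : Subgroup N) ⧸ R.subgroupOf (R ⊔ T) :=
          (QuotientGroup.mk' _).comp (Subgroup.inclusion le_sup_right)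
        haveI : Group.IsSolvable (R.subgroupOf (R ⊔ T)) := Group.isSolvable_of_surjective
          (f := (Subgroup.subgroupOfEquivOfLe (le_sup_left : R ≤ R ⊔ T)).symm.toMonoidHom) (MulEquiv.surjective _)
        refine CfsgLib.ConstDiff.isSolvable_of_normal (R.subgroupOf (R ⊔ T)) inferInstance
          (Group.isSolvable_of_surjective (f := f) ?_)
        intro q
        obtain ⟨⟨y, hy⟩, rfl⟩ := QuotientGroup.mk'_surjective _ q
        obtain ⟨r, hr, t, ht, hrt⟩ := Subgroup.mem_sup_of_normal_left.1 hy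
        refine ⟨⟨t, ht⟩, ?_⟩
        show QuotientGroup.mk' _ _ = QuotientGroup.mk' _ _
        rw [QuotientGroup.mk'_eq_mk']
        refine ⟨⟨t⁻¹ * (r * t), by exact mul_mem (inv_mem (le_sup_right (a := R) ht)) (mul_mem (le_sup_left (b := T) hr) (le_sup_right (a := R) ht))⟩, ?_, ?_⟩
        · show t⁻¹ * (r * t) ∈ R
          have := hR.1.1.conj_mem r hr t⁻¹
          simpa [mul_assoc] using this
        · exact Subtype.ext (by show t * (t⁻¹ * (r * t)) = y; rw [← hrt]; group)
      exact le_sup_right.trans (hR.2 ⟨inferInstance, inferInstance⟩ le_sup_left)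
    by_contra hne
    push Not at hne
    obtain ⟨x, hxK, hxs⟩ := hne
    have hRN : R.map N.subtype = N := by
      refine hmin _ (Subgroup.map_subtype_le _) (fun g hg z hz => ?_) fun hle => hxs (hle ⟨x, hKR hxK, rfl⟩)
      let c : N ≃* N :=
        { toFun := fun n => ⟨g * n * g⁻¹, hNinv g hg n n.2⟩
          invFun := fun n => ⟨g⁻¹ * n * g⁻¹⁻¹, hNinv g⁻¹ (inv_mem hg) n n.2⟩
          left_inv := fun n => Subtype.ext (by simp [mul_assoc])
          right_inv := fun n => Subtype.ext (by simp [mul_assoc])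
          map_mul' := fun a b => Subtype.ext (by simp [mul_assoc]) }
      haveI := hR.1.2
      have h1 := hmax (R.map c.toMonoidHom) (hR.1.1.map _ c.surjective)
        (Group.isSolvable_of_surjective (f := (R.equivMapOfInjective c.toMonoidHom c.injective).toMonoidHom)
          (MulEquiv.surjective _))
      obtain ⟨z, hz, rfl⟩ := hz
      exact ⟨c z, h1 ⟨z, hz, rfl⟩, rfl⟩
    have hRtop : R = ⊤ := Subgroup.map_injective N.subtype_injective
      (by rw [hRN, ← MonoidHom.range_eq_map, Subgroup.range_subtype])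
    haveI : Group.IsSolvable N := by
      haveI := hR.1.2
      refine Group.isSolvable_of_surjective (f := R.subtype) fun n => ⟨⟨n, hRtop ▸ Subgroup.mem_top n⟩, rfl⟩
    haveI : Nontrivial N := (Subgroup.nontrivial_iff_ne_bot N).2 fun h => hNns (h ▸ bot_le)
    exact (Group.IsSolvable.commutator_lt_top_of_nontrivial N).ne hperfT
  have hcentral : ∀ z : N, z * z = 1 → (∀ g, z * g = g * z) → z = 1 := by
    intro z hz hzc
    have hzs := hsol (Subgroup.center N) (Group.isSolvable_of_comm fun a b => Subtype.ext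
      ((Subgroup.mem_center_iff.1 b.2 a))) z (Subgroup.mem_center_iff.2 fun g => (hzc g).symm)
    exact Subtype.ext (scalar_mul_self_eq_one (hdet _ (hNL z.2)) hzs (congrArg Subtype.val hz))
  -- irreducibility
  have hirr : ActsIrreducibly (matrixSet N) := by
    intro W hW
    by_contra hne
    push Not at hne
    have hmem : ∀ (g : N) (w : Fin 3 → F), w ∈ W → ((g : GL (Fin 3) F) : Matrix (Fin 3) (Fin 3) F) *ᵥ w ∈ W :=
      fun g w hw => hW _ ⟨g, g.2, rfl⟩ ⟨w, hw, Matrix.toLin'_apply _ _⟩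
    let σ : N →* Module.End F W :=
      { toFun := fun g => (Matrix.toLin' ((g : GL (Fin 3) F) : Matrix (Fin 3) (Fin 3) F)).restrict
          (fun w hw => by simpa [Matrix.toLin'_apply] using hmem g w hw)
        map_one' := LinearMap.ext fun w => Subtype.ext (by simp)
        map_mul' := fun a b => LinearMap.ext fun w => Subtype.ext (by simp [Matrix.mulVec_mulVec]) }
    let τ : N →* Module.End F ((Fin 3 → F) ⧸ W) :=
      { toFun := fun g => W.mapQ W (Matrix.toLin' ((g : GL (Fin 3) F) : Matrix (Fin 3) (Fin 3) F))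
          (fun w hw => by simpa [Matrix.toLin'_apply] using hmem g w hw)
        map_one' := LinearMap.ext fun v => by
          obtain ⟨v, rfl⟩ := Submodule.mkQ_surjective W v
          simp
        map_mul' := fun a b => LinearMap.ext fun v => by
          obtain ⟨v, rfl⟩ := Submodule.mkQ_surjective W v
          simp [Matrix.mulVec_mulVec] }
    -- a one-dimensional representation is trivial
    have hone : ∀ {U : Type u} [AddCommGroup U] [Module F U] [FiniteDimensional F U],
        Module.finrank F U = 1 → ∀ (π : N →* Module.End F U) (g : N), π g = 1 := by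
      intro U _ _ _ hU π g
      let d : N →* Fˣ := (Units.map (LinearMap.det : Module.End F U →* F)).comp π.toHomUnits
      have h1 : LinearMap.det (π g) = 1 := congrArg Units.val (MonoidHom.mem_ker.1
        (Abelianization.commutator_subset_ker d (hperfT ▸ Subgroup.mem_top g)))
      obtain ⟨v, hv, hspan⟩ := finrank_eq_one_iff'.1 hU
      obtain ⟨c, hc⟩ := hspan (π g v)
      have hπ : π g = c • (1 : Module.End F U) := LinearMap.ext fun x => by
        obtain ⟨a, rfl⟩ := hspan x
        rw [map_smul, ← hc, LinearMap.smul_apply, Module.End.one_apply, smul_comm]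
      rw [hπ, LinearMap.det_smul, hU, pow_one, map_one, mul_one] at h1
      rw [hπ, h1, one_smul]
    -- the kernel of both is trivial
    have hboth : ∀ g : N, σ g = 1 → τ g = 1 → g = 1 := by
      have hdiff : ∀ g : N, σ g = 1 → τ g = 1 → ∀ v, ∃ w ∈ W,
          ((g : GL (Fin 3) F) : Matrix (Fin 3) (Fin 3) F) *ᵥ v = v + w := fun g _ hg v => by
        have h := LinearMap.congr_fun hg (W.mkQ v)
        refine ⟨_, (Submodule.Quotient.eq W).1 (h : W.mkQ _ = W.mkQ v), ?_⟩
        rw [Matrix.toLin'_apply]; abel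
      have hfix : ∀ g : N, σ g = 1 → ∀ w ∈ W,
          ((g : GL (Fin 3) F) : Matrix (Fin 3) (Fin 3) F) *ᵥ w = w := fun g hg w hw => by
        have h := congrArg Subtype.val (LinearMap.congr_fun hg ⟨w, hw⟩)
        simpa [σ] using h
      intro g hg1 hg2
      let K : Subgroup N := σ.ker ⊓ τ.ker
      haveI : Group.IsSolvable K := Group.isSolvable_of_comm fun a b => by
        refine Subtype.ext (Subtype.ext (Units.ext (Matrix.ext_of_mulVec_single fun i => ?_)))
        obtain ⟨w, hw, ha⟩ := hdiff a.1 a.2.1 a.2.2 (Pi.single i 1)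
        obtain ⟨w', hw', hb⟩ := hdiff b.1 b.2.1 b.2.2 (Pi.single i 1)
        show (((a.1 : GL (Fin 3) F) * b.1 : GL (Fin 3) F) : Matrix (Fin 3) (Fin 3) F) *ᵥ _ =
          (((b.1 : GL (Fin 3) F) * a.1 : GL (Fin 3) F) : Matrix (Fin 3) (Fin 3) F) *ᵥ _
        rw [Units.val_mul, Units.val_mul, ← Matrix.mulVec_mulVec, ← Matrix.mulVec_mulVec, hb, ha,
          Matrix.mulVec_add, Matrix.mulVec_add, ha, hb, hfix a.1 a.2.1 w' hw', hfix b.1 b.2.1 w hw]
        abel
      have hgs := hsol K inferInstance g ⟨hg1, hg2⟩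
      obtain ⟨c, hc⟩ := (mem_scalars_iff _).1 hgs
      obtain ⟨w, hw, hw0⟩ := (Submodule.ne_bot_iff W).1 hne.1
      have h := hfix g hg1 w hw
      rw [hc, Matrix.smul_mulVec, Matrix.one_mulVec] at h
      have hc1 : (c : F) = 1 := by
        have : ((c : F) - 1) • w = 0 := by rw [sub_smul, h, one_smul, sub_self]
        exact sub_eq_zero.1 ((smul_eq_zero.1 this).resolve_right hw0)
      exact Subtype.ext (Units.ext (by rw [hc, hc1, one_smul]; rfl))
    have hlt : Module.finrank F W < 3 := by simpa using Submodule.finrank_lt hne.2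
    have hpos : 0 < Module.finrank F W := Nat.pos_of_ne_zero fun h => hne.1 (Submodule.finrank_eq_zero.1 h)
    have hsum : Module.finrank F ((Fin 3 → F) ⧸ W) + Module.finrank F W = 3 := by
      rw [Submodule.finrank_quotient_add_finrank, Module.finrank_fin_fun]
    have htriv : ∀ g : N, g = 1 := by
      rcases (show Module.finrank F W = 1 ∨ Module.finrank F W = 2 by omega) with h | h
      · exact eq_one_of_rep_two (show Module.finrank F ((Fin 3 → F) ⧸ W) = 2 by omega) h2 hperfT τ
          ((injective_iff_map_eq_one τ).2 fun g hg => hboth g (hone h σ g) hg) hcentral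
      · exact eq_one_of_rep_two h h2 hperfT σ
          ((injective_iff_map_eq_one σ).2 fun g hg => hboth g hg (hone (by omega) τ g)) hcentral
    exact hNns fun x hx => by
      rw [show x = 1 from congrArg Subtype.val (htriv ⟨x, hx⟩)]
      exact one_mem _
  have hspan : algOf N = ⊤ := algOf_eq_top_of_prime (by rw [Fintype.card_fin]; norm_num) hirr fun h =>
    hcl fun x hx y hy => by
      rw [h x hx y hy]
      simp
  have hsimple := (simple_or_power hNL hNinv hspan hcl hmin).resolve_right (by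
    rintro ⟨a, t, ha, ht, h⟩
    rw [Fintype.card_fin] at h
    have : 2 ^ 2 ≤ a ^ t := (Nat.pow_le_pow_left ha 2).trans (Nat.pow_le_pow_right (by omega) ht)
    omega)
  obtain ⟨hs1, hs2, hs3⟩ := simple_facts (H := L) hspan hperf hNns hsimple
  exact ⟨N, hNL, hNinv, hperf, hNns, hspan, hs1, hs2, hs3⟩

end CfsgLib.DimThreeSub
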