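import Cfsg.Prelude.Def_Classical
import Mathlib

/-!
# Copies of the classical models over a field in the lowest universe
-/

set_option autoImplicit false
set_option linter.unusedSectionVars false

namespace CfsgLib.DimThreeSub

open Matrix

universe u

variable {F : Type u} [Field F] {K : Type*} [Field K]

/-- The special linear groups over isomorphic fields. -/
def slEquiv (n : ℕ) (e : F ≃+* K) :
    Matrix.SpecialLinearGroup (Fin n) F ≃* Matrix.SpecialLinearGroup (Fin n) K :=
  { Matrix.SpecialLinearGroup.map (e : F →+* K) with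
    invFun := Matrix.SpecialLinearGroup.map (e.symm : K →+* F)
    left_inv := fun g => Subtype.ext (Matrix.ext fun i j => e.symm_apply_apply (g.1 i j))
    right_inv := fun g => Subtype.ext (Matrix.ext fun i j => e.apply_symm_apply (g.1 i j)) }

theorem map_center_eq {G G' : Type*} [Group G] [Group G'] (f : G ≃* G') :
    (Subgroup.center G).map (f : G →* G') = Subgroup.center G' := by
  ext y
  simp only [Subgroup.mem_map, Subgroup.mem_center_iff]
  constructor
  · rintro ⟨x, hx, rfl⟩ g
    obtain ⟨z, rfl⟩ := f.surjective g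
    show f z * f x = f x * f z
    rw [← map_mul, ← map_mul, hx]
  · intro hy
    refine ⟨f.symm y, fun g => f.injective ?_, f.apply_symm_apply y⟩
    rw [map_mul, map_mul, f.apply_symm_apply, hy]

/-- The projective special linear groups over isomorphic fields. -/
noncomputable def pslEquiv (n : ℕ) (e : F ≃+* K) :
    Matrix.ProjectiveSpecialLinearGroup (Fin n) F ≃* Matrix.ProjectiveSpecialLinearGroup (Fin n) K :=
  QuotientGroup.congr _ _ (slEquiv n e) (map_center_eq _)

/-- The general linear groups over isomorphic fields, modulo the centre. -/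
noncomputable def pglEquiv (n : ℕ) (e : F ≃+* K) :
    (GL (Fin n) F ⧸ Subgroup.center (GL (Fin n) F)) ≃* (GL (Fin n) K ⧸ Subgroup.center (GL (Fin n) K)) :=
  QuotientGroup.congr _ _ (Units.mapEquiv (e.mapMatrix (m := Fin n)).toMulEquiv) (map_center_eq _)

theorem mem_SU_map {n : ℕ} {q : ℕ} (e : F ≃+* K) (g : Matrix.SpecialLinearGroup (Fin n) F) :
    slEquiv n e g ∈ Cfsg.SU n K q ↔ g ∈ Cfsg.SU n F q := by
  have hmv : ∀ u : Fin n → F, ((slEquiv n e g : Matrix.SpecialLinearGroup (Fin n) K) :
      Matrix (Fin n) (Fin n) K) *ᵥ (e ∘ u) = e ∘ ((g : Matrix (Fin n) (Fin n) F) *ᵥ u) := by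
    intro u
    funext i
    exact (RingHom.map_mulVec (e : F →+* K) (g : Matrix (Fin n) (Fin n) F) u i).symm
  have hh : ∀ u v : Fin n → F, Cfsg.hermForm n K q (e ∘ u) (e ∘ v) = e (Cfsg.hermForm n F q u v) := by
    intro u v
    simp [Cfsg.hermForm, map_sum, map_mul, map_pow]
  constructor
  · intro h u v
    apply e.injective
    rw [← hh, ← hh, show Cfsg.slToMat n F g = (g : Matrix (Fin n) (Fin n) F) from rfl, ← hmv, ← hmv]
    exact h _ _
  · intro h u v
    obtain ⟨u', rfl⟩ : ∃ u', e ∘ u' = u := ⟨e.symm ∘ u, funext fun i => e.apply_symm_apply _⟩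
    obtain ⟨v', rfl⟩ : ∃ v', e ∘ v' = v := ⟨e.symm ∘ v, funext fun i => e.apply_symm_apply _⟩
    show Cfsg.hermForm n K q (_ *ᵥ _) (_ *ᵥ _) = _
    rw [show Cfsg.slToMat n K (slEquiv n e g) = ((slEquiv n e g : Matrix.SpecialLinearGroup (Fin n) K) :
      Matrix (Fin n) (Fin n) K) from rfl, hmv, hmv, hh, hh]
    exact congrArg e (h u' v')

/-- The projective special unitary groups over isomorphic fields. -/
noncomputable def psuEquiv (n q : ℕ) (e : F ≃+* K) : Cfsg.PSU n F q ≃* Cfsg.PSU n K q :=
  QuotientGroup.congr _ _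
    ((((slEquiv n e).subgroupMap (Cfsg.SU n F q))).trans (MulEquiv.subgroupCongr (by
      ext y
      obtain ⟨x, rfl⟩ := (slEquiv n e).surjective y
      rw [mem_SU_map]
      constructor
      · rintro ⟨z, hz, hzx⟩
        rw [← (slEquiv n e).injective hzx]
        exact hz
      · exact fun hx => ⟨x, hx, rfl⟩)))
    (map_center_eq _)

/-- A finite field has a copy in the lowest universe. -/
theorem exists_small_field [Fintype F] {p γ : ℕ} [Fact p.Prime] (hF : Fintype.card F = p ^ γ) :
    ∃ (K : Type) (_ : Field K) (_ : Fintype K), Fintype.card K = p ^ γ ∧ Nonempty (F ≃+* K) := by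
  have hγ : γ ≠ 0 := by
    rintro rfl
    exact absurd hF (by rw [pow_zero]; exact Fintype.one_lt_card.ne')
  haveI : Finite (GaloisField p γ) := inferInstance
  letI := Fintype.ofFinite (GaloisField p γ)
  have hK : Fintype.card (GaloisField p γ) = p ^ γ := by
    rw [← Nat.card_eq_fintype_card, GaloisField.card p γ hγ]
  exact ⟨GaloisField p γ, inferInstance, inferInstance, hK,
    ⟨FiniteField.ringEquivOfCardEq (hF.trans hK.symm)⟩⟩

end CfsgLib.DimThreeSub
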