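import Cfsg.Agent.Lib.DimThreeSub.Reduce
import Cfsg.Agent.Lib.DimThreeSub.Models
import Cfsg.Agent.Lib.GeomClasses.UnitPow
import Cfsg.Agent.Lib.ClassicalGroups.HermGroup

/-!
# The socle is the special linear or the special unitary group
-/

set_option autoImplicit false
set_option linter.unusedSectionVars false

namespace CfsgLib.DimThreeSub

open Cfsg Cfsg.Geo Matrix CfsgLib.Geo.Asch
open scoped MatrixGroups

universe u v

variable {F : Type u} [Field F] [Fintype F]

/-- The determinant modulo cubes. -/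
def detCube : GL (Fin 3) F →* Fˣ ⧸ (powMonoidHom 3 : Fˣ →* Fˣ).range :=
  (QuotientGroup.mk' _).comp Matrix.GeneralLinearGroup.det

theorem detCube_eq_one {g : GL (Fin 3) F} :
    detCube g = 1 ↔ ∃ x : F, x ^ 3 = (g : Matrix (Fin 3) (Fin 3) F).det := by
  rw [detCube, MonoidHom.comp_apply, QuotientGroup.mk'_apply, QuotientGroup.eq_one_iff]
  constructor
  · rintro ⟨x, hx⟩
    exact ⟨x, by rw [← Units.val_pow_eq_pow_val]; exact congrArg Units.val hx⟩
  · rintro ⟨x, hx⟩
    have hx0 : x ≠ 0 := fun h => Matrix.GeneralLinearGroup.det_ne_zero g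
      (by rw [← hx, h, zero_pow (by simp)])
    exact ⟨Units.mk0 x hx0, Units.ext (by simpa using hx)⟩

theorem scalars_le_ker_detCube : scalars (Fin 3) F ≤ (detCube (F := F)).ker := by
  intro g hg
  obtain ⟨c, hc⟩ := (mem_scalars_iff g).1 hg
  exact detCube_eq_one.2 ⟨c, by rw [hc, Matrix.det_smul, Matrix.det_one, mul_one, Fintype.card_fin]⟩

theorem isCube_mul_scalar {g s : GL (Fin 3) F} (hs : s ∈ scalars (Fin 3) F) :
    detCube (g * s) = detCube g := by
  rw [map_mul, MonoidHom.mem_ker.1 (scalars_le_ker_detCube hs), mul_one]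

/-- Either `H` is the model or the model has index three in it. -/
theorem model_cases {H : Type v} [Group H] {T : Type*} [Group T] {p γ α : ℕ} {ρ : H →* PG F}
    {P : Subgroup (GL (Fin 3) F)} (hS : Setup p γ α ρ P) (ι : T →* PG F) (hι : Function.Injective ι)
    (hle : ∀ t, ∃ g ∈ lifts ρ, ι t = (g : PG F) ∧ detCube g = 1)
    (hker : ∀ g ∈ lifts ρ, detCube g = 1 → ∃ t, ι t = (g : PG F)) :
    Nonempty (H ≃* T) ∨ (3 ∣ Fintype.card F - 1 ∧ 3 * γ ∣ α ∧ (∃ g ∈ lifts ρ, detCube g ≠ 1) ∧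
      ∃ L : Subgroup H, L.index = 3 ∧ Nonempty (L ≃* T)) := by
  classical
  have hex : ∀ t, ∃ a, ρ a = ι t := fun t => by
    obtain ⟨g, ⟨a, ha⟩, hg, -⟩ := hle t
    exact ⟨a, ha.trans hg.symm⟩
  choose e he using hex
  let e' : T →* H := MonoidHom.mk' e fun a b => hS.inj (by rw [he, map_mul, map_mul, he, he])
  have he' : ∀ t, ρ (e' t) = ι t := he
  have heinj : Function.Injective e' := fun a b h => hι (by rw [← he', ← he', h])
  let δ : H →* Fˣ ⧸ (powMonoidHom 3 : Fˣ →* Fˣ).range :=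
    (QuotientGroup.lift (scalars (Fin 3) F) detCube scalars_le_ker_detCube).comp ρ
  have hδ : ∀ a g, ρ a = ((g : GL (Fin 3) F) : PG F) → δ a = detCube g := fun a g h => by
    show QuotientGroup.lift (scalars (Fin 3) F) detCube scalars_le_ker_detCube (ρ a) = _
    rw [h]; rfl
  have hkerδ : δ.ker = e'.range := by
    ext a
    obtain ⟨g, hg⟩ := QuotientGroup.mk_surjective (ρ a)
    rw [MonoidHom.mem_ker, hδ a g hg.symm]
    constructor
    · intro h
      obtain ⟨t, ht⟩ := hker g ⟨a, hg.symm⟩ h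
      exact ⟨t, hS.inj (by rw [he', ht, hg])⟩
    · rintro ⟨t, rfl⟩
      obtain ⟨g', -, hg', h1⟩ := hle t
      rw [← hδ _ g hg.symm, hδ (e' t) g' ((he' t).trans hg')]
      exact h1
  have hcard : Nat.card δ.range ∣ 3 := by
    refine dvd_trans δ.range.card_subgroup_dvd_card ?_
    rw [← Subgroup.index_eq_card, IsCyclic.index_powMonoidHom_range]
    exact Nat.gcd_dvd_right _ _
  rcases (Nat.dvd_prime Nat.prime_three).1 hcard with h | h
  · left
    have htop : e'.range = ⊤ := by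
      rw [← hkerδ, eq_top_iff]
      intro a _
      have hb : δ.range = ⊥ := Subgroup.card_eq_one.1 h
      have : δ a ∈ δ.range := ⟨a, rfl⟩
      rw [hb, Subgroup.mem_bot] at this
      exact this
    exact ⟨((MonoidHom.ofInjective heinj).trans ((MulEquiv.subgroupCongr htop).trans Subgroup.topEquiv)).symm⟩
  · right
    have hne : ∃ a, δ a ≠ 1 := by
      by_contra hall
      push Not at hall
      have hb : δ.range = ⊥ := by
        rw [Subgroup.eq_bot_iff_forall]
        rintro _ ⟨a, rfl⟩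
        exact hall a
      rw [hb, Subgroup.card_bot] at h
      omega
    obtain ⟨a, ha⟩ := hne
    obtain ⟨g, hg⟩ := QuotientGroup.mk_surjective (ρ a)
    rw [hδ a g hg.symm] at ha
    refine ⟨?_, hS.cube g ⟨a, hg.symm⟩ (fun x hx => ha (detCube_eq_one.2 ⟨x, hx⟩)), ⟨g, ⟨a, hg.symm⟩, ha⟩,
      e'.range, ?_, ⟨(MonoidHom.ofInjective heinj).symm⟩⟩
    · have h3 : 3 ∣ Nat.card Fˣ := by
        have h1 : Nat.card δ.range ∣ (Nat.card Fˣ).gcd 3 := by
          refine dvd_trans δ.range.card_subgroup_dvd_card ?_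
          rw [← Subgroup.index_eq_card, IsCyclic.index_powMonoidHom_range]
        rw [h] at h1
        exact h1.trans (Nat.gcd_dvd_left _ _)
      rwa [Nat.card_units, Nat.card_eq_fintype_card] at h3
    · rw [← hkerδ, Subgroup.index_ker, h]

/-- The socle is the special linear group. -/
theorem concl_linear {H : Type v} [Group H] {p γ α : ℕ} [Fact p.Prime] {ρ : H →* PG F}
    {P : Subgroup (GL (Fin 3) F)} (hS : Setup p γ α ρ P) (hP : P = specialLinear (Fin 3) F) :
    Concl p α H := by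
  obtain ⟨ι, hι, -⟩ := exists_embedding (F := F)
  clear ι hι
  have hc : ∀ a : Matrix.SpecialLinearGroup (Fin 3) F,
      Matrix.SpecialLinearGroup.toGL a ∈ scalars (Fin 3) F ↔ a ∈ Subgroup.center _ := by
    intro a
    constructor
    · intro ha
      rw [Subgroup.mem_center_iff]
      intro b
      exact Matrix.SpecialLinearGroup.toGL_injective (by rw [map_mul, map_mul, scalars_comm ha])
    · intro ha
      refine mem_scalars_of_commute hS.span fun x hx => ?_
      rw [hP] at hx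
      have hxd : (x : Matrix (Fin 3) (Fin 3) F).det = 1 := congrArg Units.val (MonoidHom.mem_ker.1 hx)
      exact Units.ext (congrArg Subtype.val (Subgroup.mem_center_iff.1 ha ⟨_, hxd⟩)).symm
  let ι : Matrix.ProjectiveSpecialLinearGroup (Fin 3) F →* PG F :=
    QuotientGroup.map _ _ Matrix.SpecialLinearGroup.toGL (fun a ha => (hc a).2 ha)
  have hι : Function.Injective ι := by
    rw [injective_iff_map_eq_one]
    intro q hq
    obtain ⟨a, rfl⟩ := QuotientGroup.mk_surjective q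
    change ((Matrix.SpecialLinearGroup.toGL a : GL (Fin 3) F) : PG F) = 1 at hq
    rw [QuotientGroup.eq_one_iff] at hq
    exact (QuotientGroup.eq_one_iff a).2 ((hc a).1 hq)
  have hmem : ∀ a : Matrix.SpecialLinearGroup (Fin 3) F, Matrix.SpecialLinearGroup.toGL a ∈ lifts ρ := by
    intro a
    refine hS.le ?_
    rw [hP]
    exact MonoidHom.mem_ker.2 (Units.ext a.2)
  obtain ⟨K, hKf, hKfin, hK, ⟨e⟩⟩ := exists_small_field hS.card
  have key := model_cases hS ι hι
    (fun t => by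
      obtain ⟨a, rfl⟩ := QuotientGroup.mk_surjective t
      exact ⟨_, hmem a, rfl, detCube_eq_one.2 ⟨1, by rw [one_pow]; exact a.2.symm⟩⟩)
    (fun g _ h => by
      obtain ⟨x, hx⟩ := detCube_eq_one.1 h
      have hx0 : x ≠ 0 := fun h => Matrix.GeneralLinearGroup.det_ne_zero g
        (by rw [← hx, h, zero_pow (by simp)])
      let a : Matrix.SpecialLinearGroup (Fin 3) F :=
        ⟨x⁻¹ • (g : Matrix (Fin 3) (Fin 3) F), by
          rw [Matrix.det_smul, Fintype.card_fin, ← hx, inv_pow, inv_mul_cancel₀ (pow_ne_zero _ hx0)]⟩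
      refine ⟨(a : Matrix.ProjectiveSpecialLinearGroup (Fin 3) F), ?_⟩
      show ((Matrix.SpecialLinearGroup.toGL a : GL (Fin 3) F) : PG F) = _
      rw [QuotientGroup.eq, mem_scalars_iff]
      refine ⟨Units.mk0 x hx0, ?_⟩
      have hg : (g : Matrix (Fin 3) (Fin 3) F) = x • (Matrix.SpecialLinearGroup.toGL a : GL (Fin 3) F).val := by
        show _ = x • (x⁻¹ • (g : Matrix (Fin 3) (Fin 3) F))
        rw [smul_smul, mul_inv_cancel₀ hx0, one_smul]
      rw [Units.val_mul, hg, Matrix.mul_smul, Units.inv_mul, Units.val_mk0])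
  rcases key with ⟨⟨f⟩⟩ | ⟨h3, hdvd, -, L, hL, ⟨f⟩⟩
  · exact Or.inl ⟨K, hKf, hKfin, γ, hK, hS.dvd, ⟨f.trans (pslEquiv 3 e)⟩⟩
  · exact Or.inr (Or.inr (Or.inl ⟨K, hKf, hKfin, γ, hK, hS.card ▸ h3, hdvd, L, hL,
      ⟨f.trans (pslEquiv 3 e)⟩⟩))

/-- In the norm-one group of a quadratic extension every cube of the field is a cube of a norm-one element. -/
theorem exists_norm_one_cube {q : ℕ} (hF : Fintype.card F = q ^ 2) {y : F} (hy : (y ^ 3) ^ (q + 1) = 1) :
    ∃ w : F, w ^ (q + 1) = 1 ∧ w ^ 3 = y ^ 3 := by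
  by_cases h3 : 3 ∣ q + 1
  · refine ⟨y, ?_, rfl⟩
    have hy0 : y ≠ 0 := fun h => by
      rw [h, zero_pow (by simp), zero_pow (by simp)] at hy
      exact zero_ne_one hy
    set ω := y ^ (q + 1) with hω
    have hω3 : ω ^ 3 = 1 := by rw [hω, ← hy, ← pow_mul, ← pow_mul, mul_comm]
    have hω0 : ω ≠ 0 := pow_ne_zero _ hy0
    have hωq : ω ^ q = ω := by
      have := FiniteField.pow_card y
      rw [hF] at this
      rw [hω, ← pow_mul, show (q + 1) * q = q ^ 2 + q by ring, pow_add, this, pow_succ, mul_comm]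
    obtain ⟨k, hk⟩ := h3
    have hq : q = 3 * (k - 1) + 2 := by omega
    rw [hq, pow_add, pow_mul, hω3, one_pow, one_mul, pow_two] at hωq
    exact (mul_eq_left₀ hω0).1 hωq
  · obtain ⟨k, hk⟩ : ∃ k, 3 * k % (q + 1) = 1 % (q + 1) := by
      rcases (show (q + 1) % 3 = 1 ∨ (q + 1) % 3 = 2 by omega) with h | h
      · exact ⟨(2 * (q + 1) + 1) / 3, by
          rw [show 3 * ((2 * (q + 1) + 1) / 3) = 1 + (q + 1) * 2 by omega, Nat.add_mul_mod_self_left]⟩
      · exact ⟨((q + 1) + 1) / 3, by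
          rw [show 3 * (((q + 1) + 1) / 3) = 1 + (q + 1) by omega, Nat.add_mod_right]⟩
    refine ⟨(y ^ 3) ^ k, by rw [← pow_mul, mul_comm, pow_mul, hy, one_pow], ?_⟩
    rw [← pow_mul, mul_comm k 3]
    have hmod : ∀ n, (y ^ 3) ^ n = (y ^ 3) ^ (n % (q + 1)) := fun n => by
      conv_lhs => rw [← Nat.div_add_mod n (q + 1), pow_add, pow_mul, hy, one_pow, one_mul]
    rw [hmod (3 * k), hk, ← hmod, pow_one]

/-- A fixed element of the quadratic field automorphism is a norm. -/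
theorem exists_norm {q : ℕ} (hF : Fintype.card F = q ^ 2) {l : Fˣ} (hl : l ^ (q - 1) = 1) :
    ∃ c : Fˣ, c ^ (q + 1) = l := by
  have hN : Nat.card Fˣ = (q + 1) * (q - 1) := by
    rw [Nat.card_units, Nat.card_eq_fintype_card, hF, ← Nat.sq_sub_sq, one_pow]
  have hle : (powMonoidHom (q + 1) : Fˣ →* Fˣ).range ≤ (powMonoidHom (q - 1) : Fˣ →* Fˣ).ker := by
    rintro _ ⟨x, rfl⟩
    rw [MonoidHom.mem_ker, powMonoidHom_apply, powMonoidHom_apply, ← pow_mul, ← hN, pow_card_eq_one']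
  have heq : (powMonoidHom (q + 1) : Fˣ →* Fˣ).range = (powMonoidHom (q - 1) : Fˣ →* Fˣ).ker := by
    refine Subgroup.eq_of_le_of_card_ge hle ?_
    rw [IsCyclic.card_powMonoidHom_range, IsCyclic.card_powMonoidHom_ker, hN, Nat.gcd_mul_left_left,
      Nat.gcd_mul_right_left, Nat.mul_div_cancel_left _ (Nat.succ_pos q)]
  have h : l ∈ (powMonoidHom (q + 1) : Fˣ →* Fˣ).range := heq ▸ MonoidHom.mem_ker.2 hl
  exact h

theorem det_norm_one {q : ℕ} (hF : Fintype.card F = q ^ 2) {u : GL (Fin 3) F} (hu : u ∈ Cfsg.GU 3 F q) :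
    (u : Matrix (Fin 3) (Fin 3) F).det ^ (q + 1) = 1 := by
  have h := congrArg Units.val (CfsgLib.ClassicalGroups.GU_det_pow hF ⟨u, hu⟩)
  rw [Units.val_pow_eq_pow_val, Units.val_one] at h
  exact h

/-- The socle is the special unitary group. -/
theorem concl_unitary {H : Type v} [Group H] {p γ β α : ℕ} [Fact p.Prime] {ρ : H →* PG F}
    {P : Subgroup (GL (Fin 3) F)} (hS : Setup p γ α ρ P) (hγ : γ = 2 * β)
    (hP : P = Cfsg.GU 3 F (p ^ β) ⊓ specialLinear (Fin 3) F) :
    Concl p α H := by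
  classical
  set q := p ^ β with hq
  have hF : Fintype.card F = q ^ 2 := by rw [hS.card, hγ, hq, ← pow_mul, mul_comm]
  have hPmem : ∀ a : Cfsg.SU 3 F q, Matrix.SpecialLinearGroup.toGL a.1 ∈ P := fun a => by
    rw [hP]
    exact ⟨a.2, MonoidHom.mem_ker.2 (Units.ext a.1.2)⟩
  let ψ : Cfsg.SU 3 F q →* GL (Fin 3) F := Matrix.SpecialLinearGroup.toGL.comp (Cfsg.SU 3 F q).subtype
  have hψ : Function.Injective ψ := Matrix.SpecialLinearGroup.toGL_injective.comp Subtype.val_injective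
  have hc : ∀ a, ψ a ∈ scalars (Fin 3) F ↔ a ∈ Subgroup.center _ := by
    intro a
    constructor
    · intro ha
      rw [Subgroup.mem_center_iff]
      intro b
      exact hψ (by rw [map_mul, map_mul, scalars_comm ha])
    · intro ha
      refine mem_scalars_of_commute hS.span fun x hx => ?_
      rw [hP] at hx
      have hxd : (x : Matrix (Fin 3) (Fin 3) F).det = 1 := congrArg Units.val (MonoidHom.mem_ker.1 hx.2)
      let b : Cfsg.SU 3 F q := ⟨⟨_, hxd⟩, hx.1⟩
      have := congrArg ψ (Subgroup.mem_center_iff.1 ha b)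
      rw [map_mul, map_mul] at this
      have hx' : ψ b = x := Units.ext rfl
      rw [hx'] at this
      exact this.symm
  let ι : Cfsg.PSU 3 F q →* PG F := QuotientGroup.map _ _ ψ (fun a ha => (hc a).2 ha)
  have hι : Function.Injective ι := by
    rw [injective_iff_map_eq_one]
    intro t ht
    obtain ⟨a, rfl⟩ := QuotientGroup.mk_surjective t
    change ((ψ a : GL (Fin 3) F) : PG F) = 1 at ht
    rw [QuotientGroup.eq_one_iff] at ht
    exact (QuotientGroup.eq_one_iff a).2 ((hc a).1 ht)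
  have hf := CfsgLib.GeomClasses.UnitPow.isUnitaryForm_hermForm hF 3
  set σ := CfsgLib.GeomClasses.UnitPow.conj hF with hσ
  have hσq : ∀ x, σ x = x ^ q := fun x => CfsgLib.GeomClasses.UnitPow.conj_apply hF x
  have hfix : FixesForm (matrixSet P) (Cfsg.hermForm 3 F q) := by
    rintro _ ⟨x, hx, rfl⟩ a b
    rw [hP] at hx
    exact hx.1 a b
  -- every element of `lifts ρ` is a scalar times an isometry
  have hsim : ∀ g ∈ lifts ρ, ∃ u ∈ Cfsg.GU 3 F q, ∃ s ∈ scalars (Fin 3) F, g = u * s := by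
    intro g hg
    obtain ⟨l, hl⟩ := le_similarityGroup hS.span hS.normal σ (unitary_isSesq hf) hf.nondegenerate hfix hg
    have hlσ : σ (l : F) = l := by
      have he : Cfsg.hermForm 3 F q (Pi.single 0 1) (Pi.single 0 1) = 1 := by
        have hq0 : q ≠ 0 := pow_ne_zero _ (Fact.out : p.Prime).ne_zero
        simp [Cfsg.hermForm, Pi.single_apply, hq0]
      have h1 := hf.herm ((g : Matrix (Fin 3) (Fin 3) F) *ᵥ Pi.single 0 1)
        ((g : Matrix (Fin 3) (Fin 3) F) *ᵥ Pi.single 0 1)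
      rw [hl, he, mul_one] at h1
      exact h1.symm
    have hl1 : l ^ (q - 1) = 1 := by
      apply Units.ext
      rw [Units.val_pow_eq_pow_val, Units.val_one]
      refine mul_left_cancel₀ l.ne_zero ?_
      rw [mul_one, ← pow_succ', Nat.sub_add_cancel (Nat.one_le_pow _ _ (Fact.out : p.Prime).pos), ← hσq]
      exact hlσ
    obtain ⟨c, hc⟩ := exists_norm hF hl1
    have hcq : (c : F) * (c : F) ^ q = l := by
      rw [← hc, Units.val_pow_eq_pow_val, pow_succ']
    let s : GL (Fin 3) F := Units.map (Matrix.scalar (Fin 3) : F →+* Matrix (Fin 3) (Fin 3) F).toMonoidHom c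
    have hs : s ∈ scalars (Fin 3) F := ⟨_, rfl⟩
    refine ⟨g * s⁻¹, ?_, s, hs, by group⟩
    intro a b
    have hs1 : ∀ v : Fin 3 → F, ((s⁻¹ : GL (Fin 3) F) : Matrix (Fin 3) (Fin 3) F) *ᵥ v = (c : F)⁻¹ • v := by
      intro v
      show (Matrix.scalar (Fin 3) ((c⁻¹ : Fˣ) : F)) *ᵥ v = _
      rw [Matrix.scalar_apply, ← Matrix.smul_one_eq_diagonal, Matrix.smul_mulVec, Matrix.one_mulVec,
        Units.val_inv_eq_inv_val]
    show Cfsg.hermForm 3 F q (_ *ᵥ a) (_ *ᵥ b) = _
    rw [Units.coeHom_apply, Units.val_mul, ← Matrix.mulVec_mulVec, ← Matrix.mulVec_mulVec, hs1, hs1,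
      Matrix.mulVec_smul, Matrix.mulVec_smul, hf.smul_left, (unitary_isSesq hf).smul_right, hl]
    show (c : F)⁻¹ * (σ (c : F)⁻¹ * ((l : F) * _)) = _
    rw [hσq, ← hcq, inv_pow]
    field_simp
  have key := model_cases hS ι hι
    (fun t => by
      obtain ⟨a, rfl⟩ := QuotientGroup.mk_surjective t
      exact ⟨_, hS.le (hPmem a), rfl, detCube_eq_one.2 ⟨1, by rw [one_pow]; exact a.1.2.symm⟩⟩)
    (fun g hg h => by
      obtain ⟨u, hu, s, hs, rfl⟩ := hsim g hg
      rw [isCube_mul_scalar hs] at h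
      obtain ⟨y, hy⟩ := detCube_eq_one.1 h
      have hnorm : (y ^ 3) ^ (q + 1) = 1 := by
        rw [hy]
        exact det_norm_one hF hu
      obtain ⟨w, hw1, hw3⟩ := exists_norm_one_cube hF hnorm
      have hw0 : w ≠ 0 := fun h => by rw [h, zero_pow (by simp)] at hw1; exact zero_ne_one hw1
      have hd : (w⁻¹ • (u : Matrix (Fin 3) (Fin 3) F)).det = 1 := by
        rw [Matrix.det_smul, Fintype.card_fin, ← hy, ← hw3, inv_pow, inv_mul_cancel₀ (pow_ne_zero _ hw0)]
      let a : Cfsg.SU 3 F q := ⟨⟨_, hd⟩, fun x y => by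
        show Cfsg.hermForm 3 F q ((w⁻¹ • (u : Matrix (Fin 3) (Fin 3) F)) *ᵥ x)
          ((w⁻¹ • (u : Matrix (Fin 3) (Fin 3) F)) *ᵥ y) = _
        rw [Matrix.smul_mulVec, Matrix.smul_mulVec, hf.smul_left, (unitary_isSesq hf).smul_right,
          CfsgLib.GeomClasses.UnitPow.mem_GU.1 hu]
        show w⁻¹ * (σ w⁻¹ * _) = _
        rw [hσq, inv_pow, ← mul_assoc, ← mul_inv, ← pow_succ', hw1, inv_one, one_mul]⟩
      refine ⟨(a : Cfsg.PSU 3 F q), ?_⟩
      show ((ψ a : GL (Fin 3) F) : PG F) = _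
      rw [QuotientGroup.mk_mul, (QuotientGroup.eq_one_iff s).2 hs, mul_one, QuotientGroup.eq, mem_scalars_iff]
      refine ⟨Units.mk0 w hw0, ?_⟩
      have hu' : (u : Matrix (Fin 3) (Fin 3) F) = w • (ψ a : GL (Fin 3) F).val := by
        show _ = w • (w⁻¹ • (u : Matrix (Fin 3) (Fin 3) F))
        rw [smul_smul, mul_inv_cancel₀ hw0, one_smul]
      rw [Units.val_mul, hu', Matrix.mul_smul, Units.inv_mul, Units.val_mk0])
  obtain ⟨K, hKf, hKfin, hK, ⟨e⟩⟩ := exists_small_field hS.card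
  rw [hγ] at hK
  rcases key with ⟨⟨f⟩⟩ | ⟨-, hdvd, ⟨g, hg, hg1⟩, L, hL, ⟨f⟩⟩
  · exact Or.inr (Or.inl ⟨K, hKf, hKfin, β, hK, hγ ▸ hS.dvd, ⟨f.trans (psuEquiv 3 q e)⟩⟩)
  · refine Or.inr (Or.inr (Or.inr (Or.inl ⟨K, hKf, hKfin, β, hK, ?_, ?_, L, hL, ⟨f.trans (psuEquiv 3 q e)⟩⟩)))
    · by_contra h3
      obtain ⟨u, hu, s, hs, rfl⟩ := hsim g hg
      rw [isCube_mul_scalar hs] at hg1
      refine hg1 (detCube_eq_one.2 ?_)
      have hn := det_norm_one hF hu
      rcases (show (q + 1) % 3 = 1 ∨ (q + 1) % 3 = 2 by rw [hq]; omega) with h | h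
      · refine ⟨(u : Matrix (Fin 3) (Fin 3) F).det ^ ((2 * (q + 1) + 1) / 3), ?_⟩
        rw [← pow_mul, show (2 * (q + 1) + 1) / 3 * 3 = (q + 1) * 2 + 1 by omega, pow_succ, pow_mul, hn,
          one_pow, one_mul]
      · refine ⟨(u : Matrix (Fin 3) (Fin 3) F).det ^ (((q + 1) + 1) / 3), ?_⟩
        rw [← pow_mul, show ((q + 1) + 1) / 3 * 3 = (q + 1) + 1 by omega, pow_succ, hn, one_mul]
    · rw [hγ] at hdvd
      rwa [show 6 * β = 3 * (2 * β) by ring]

end CfsgLib.DimThreeSub
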