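import Cfsg.Agent.Lib.DimThreeSub.Defs
import Cfsg.Agent.Lib.Geo.AschTrace
import Cfsg.Agent.Lib.Geo.AschForms

/-!
# Changing basis and passing to the field of definition
-/

set_option autoImplicit false
set_option linter.unusedSectionVars false

namespace CfsgLib.DimThreeSub

open Cfsg Cfsg.Geo Matrix CfsgLib.Geo.Asch
open scoped MatrixGroups

universe u v

variable {F : Type u} [Field F] {H : Type v} [Group H]

/-- The part of a `Setup` not mentioning the field of definition. -/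
structure Pre (ρ : H →* PG F) (P : Subgroup (GL (Fin 3) F)) : Prop where
  inj : Function.Injective ρ
  noab : NoAb H
  le : P ≤ lifts ρ
  normal : ∀ g ∈ lifts ρ, ∀ x ∈ P, g * x * g⁻¹ ∈ P
  perfect : ⁅P, P⁆ = P
  nscal : ¬ P ≤ scalars (Fin 3) F
  span : algOf P = ⊤
  simple : IsSimpleGroup (P ⧸ (scalars (Fin 3) F).subgroupOf P)
  nonab : ¬ IsMulCommutative (P ⧸ (scalars (Fin 3) F).subgroupOf P)
  cent : ∀ g ∈ lifts ρ, (∀ x ∈ P, g * x * g⁻¹ * x⁻¹ ∈ scalars (Fin 3) F) → g ∈ scalars (Fin 3) F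

theorem Setup.pre [Fintype F] {p γ α : ℕ} {ρ : H →* PG F} {P : Subgroup (GL (Fin 3) F)}
    (h : Setup p γ α ρ P) : Pre ρ P :=
  ⟨h.inj, h.noab, h.le, h.normal, h.perfect, h.nscal, h.span, h.simple, h.nonab, h.cent⟩

theorem Pre.setup [Fintype F] {p γ α : ℕ} {ρ : H →* PG F} {P : Subgroup (GL (Fin 3) F)} (h : Pre ρ P)
    (hcard : Fintype.card F = p ^ γ) (hdvd : γ ∣ α) (hp : p ≠ 2)
    (hsub : ∀ F₀ : Subfield F, F₀ ≠ ⊤ → ¬ RealisableOver F₀ (matrixSet P))
    (hcube : ∀ g ∈ lifts ρ, (∀ x : F, x ^ 3 ≠ (g : Matrix (Fin 3) (Fin 3) F).det) → 3 * γ ∣ α) :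
    Setup p γ α ρ P :=
  ⟨hcard, hdvd, hp, h.inj, h.noab, h.le, h.normal, h.perfect, h.nscal, h.span, h.simple, h.nonab, h.cent,
    hsub, hcube⟩

/-! ### Pulling back along a homomorphism respecting scalars -/

section pull

variable {E : Type u} [Field E] (φ : GL (Fin 3) E →* GL (Fin 3) F)

/-- The scalar matrices of the source are the preimage of the scalar matrices. -/
def RespectsScalars : Prop := ∀ g, φ g ∈ scalars (Fin 3) F ↔ g ∈ scalars (Fin 3) E

variable {φ} (hφ : RespectsScalars φ)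
include hφ

/-- The map of projective groups. -/
def projMap : PG E →* PG F :=
  QuotientGroup.map _ _ φ (fun g hg => (hφ g).2 hg)

theorem projMap_mk (g : GL (Fin 3) E) : projMap hφ (g : PG E) = ((φ g : GL (Fin 3) F) : PG F) := rfl

theorem projMap_injective : Function.Injective (projMap hφ) := by
  rw [injective_iff_map_eq_one]
  intro a ha
  obtain ⟨g, rfl⟩ := QuotientGroup.mk_surjective a
  rw [projMap_mk, QuotientGroup.eq_one_iff] at ha
  exact (QuotientGroup.eq_one_iff g).2 ((hφ g).1 ha)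

/-- The subgroup data pulled back along `φ`. -/
theorem Pre.pull (hinj : Function.Injective φ) {ρ : H →* PG F} {P₁ : Subgroup (GL (Fin 3) E)}
    (h : Pre ρ (P₁.map φ)) (hspan : algOf P₁ = ⊤)
    (hlift : ∀ g ∈ lifts ρ, ∃ g₁ : GL (Fin 3) E, (g : PG F) = ((φ g₁ : GL (Fin 3) F) : PG F)) :
    ∃ ρ₁ : H →* PG E, Pre ρ₁ P₁ ∧
      ∀ g₁ : GL (Fin 3) E, g₁ ∈ lifts ρ₁ ↔ φ g₁ ∈ lifts ρ := by
  classical
  have hex : ∀ a : H, ∃ b : PG E, projMap hφ b = ρ a := fun a => by
    obtain ⟨g, hg⟩ := QuotientGroup.mk_surjective (ρ a)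
    obtain ⟨g₁, hg₁⟩ := hlift g ⟨a, hg.symm⟩
    exact ⟨g₁, by rw [projMap_mk, ← hg₁, hg]⟩
  choose r hr using hex
  let ρ₁ : H →* PG E := MonoidHom.mk' r fun a b =>
    projMap_injective hφ (by rw [hr, map_mul, map_mul, hr, hr])
  have hρ₁ : ∀ a, projMap hφ (ρ₁ a) = ρ a := hr
  have hmem : ∀ g₁ : GL (Fin 3) E, g₁ ∈ lifts ρ₁ ↔ φ g₁ ∈ lifts ρ := by
    intro g₁
    constructor
    · rintro ⟨a, ha⟩
      refine ⟨a, ?_⟩
      rw [← hρ₁, ha]; rfl
    · rintro ⟨a, ha⟩
      refine ⟨a, projMap_injective hφ ?_⟩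
      rw [hρ₁, ha]; rfl
  have hmap : ∀ x ∈ P₁, φ x ∈ P₁.map φ := fun x hx => Subgroup.mem_map_of_mem φ hx
  have hback : ∀ x, φ x ∈ P₁.map φ → x ∈ P₁ := fun x hx => (Subgroup.mem_map_iff_mem hinj).1 hx
  let e : P₁ ≃* P₁.map φ := P₁.equivMapOfInjective φ hinj
  have he : ((scalars (Fin 3) E).subgroupOf P₁).map (e : P₁ →* P₁.map φ) =
      (scalars (Fin 3) F).subgroupOf (P₁.map φ) := by
    ext y
    constructor
    · rintro ⟨x, hx, rfl⟩
      exact (hφ _).2 hx
    · intro hy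
      refine ⟨e.symm y, (hφ _).1 ?_, e.apply_symm_apply y⟩
      show φ ((e.symm y : P₁) : GL (Fin 3) E) ∈ _
      have : φ (e.symm y : GL (Fin 3) E) = (e (e.symm y) : GL (Fin 3) F) := rfl
      rw [this, e.apply_symm_apply]
      exact hy
  let eq : (P₁ ⧸ (scalars (Fin 3) E).subgroupOf P₁) ≃*
      (P₁.map φ ⧸ (scalars (Fin 3) F).subgroupOf (P₁.map φ)) :=
    QuotientGroup.congr _ _ e he
  refine ⟨ρ₁, ⟨?_, h.noab, ?_, ?_, ?_, ?_, hspan, ?_, ?_, ?_⟩, hmem⟩
  · intro a b hab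
    apply h.inj
    rw [← hρ₁, ← hρ₁, hab]
  · intro x hx
    exact (hmem x).2 (h.le (hmap x hx))
  · intro g hg x hx
    refine hback _ ?_
    rw [map_mul, map_mul, map_inv]
    exact h.normal _ ((hmem g).1 hg) _ (hmap x hx)
  · refine Subgroup.map_injective hinj ?_
    rw [Subgroup.map_commutator]
    exact h.perfect
  · intro hle
    apply h.nscal
    rintro _ ⟨x, hx, rfl⟩
    exact (hφ x).2 (hle hx)
  · haveI := h.simple
    haveI : Nontrivial (P₁ ⧸ (scalars (Fin 3) E).subgroupOf P₁) := eq.toEquiv.nontrivial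
    exact IsSimpleGroup.isSimpleGroup_of_surjective eq.symm.toMonoidHom eq.symm.surjective
  · intro hc
    apply h.nonab
    exact ⟨⟨fun a b => eq.symm.injective (by rw [map_mul, map_mul]; exact hc.is_comm.comm _ _)⟩⟩
  · intro g hg hc
    refine (hφ g).1 (h.cent _ ((hmem g).1 hg) ?_)
    rintro _ ⟨x, hx, rfl⟩
    rw [← map_inv φ g, ← map_inv φ x, ← map_mul, ← map_mul, ← map_mul]
    exact (hφ _).2 (hc x hx)

end pull

/-! ### Conjugation -/

theorem respectsScalars_conj (B : GL (Fin 3) F) :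
    RespectsScalars (MulAut.conj B).toMonoidHom := by
  intro g
  show B * g * B⁻¹ ∈ scalars (Fin 3) F ↔ _
  constructor
  · intro h
    have := (scalars_normal (ι := Fin 3) (F := F)).conj_mem _ h B⁻¹
    simpa [mul_assoc] using this
  · intro h
    exact (scalars_normal (ι := Fin 3) (F := F)).conj_mem _ h B

theorem algOf_map_conj (B : GL (Fin 3) F) {P : Subgroup (GL (Fin 3) F)} (h : algOf P = ⊤) :
    algOf (P.map (MulAut.conj B).toMonoidHom) = ⊤ := by
  rw [eq_top_iff]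
  intro M _
  have key : ∀ X ∈ algOf P, conjHom B X ∈ algOf (P.map (MulAut.conj B).toMonoidHom) := by
    intro X hX
    have h1 : conjHom B X ∈ (algOf P).map (conjHom B) := ⟨X, hX, rfl⟩
    rw [algOf, AlgHom.map_adjoin] at h1
    refine Algebra.adjoin_mono ?_ h1
    rintro _ ⟨_, ⟨x, hx, rfl⟩, rfl⟩
    exact ⟨_, Subgroup.mem_map_of_mem _ hx, rfl⟩
  have h2 := key (conjHom B⁻¹ M) (h ▸ Algebra.mem_top)
  rwa [← conjHom_mul, mul_inv_cancel, show conjHom (1 : GL (Fin 3) F) M = M by simp [conjHom_apply]] at h2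

theorem det_conj (B g : GL (Fin 3) F) :
    ((B * g * B⁻¹ : GL (Fin 3) F) : Matrix (Fin 3) (Fin 3) F).det = (g : Matrix (Fin 3) (Fin 3) F).det := by
  rw [Units.val_mul, Units.val_mul, Matrix.det_mul, Matrix.det_mul, mul_right_comm, ← Matrix.det_mul,
    Units.mul_inv, Matrix.det_one, one_mul]

theorem realisable_map_conj {F₀ : Subfield F} (B : GL (Fin 3) F) {P : Subgroup (GL (Fin 3) F)}
    (h : RealisableOver F₀ (matrixSet (P.map (MulAut.conj B).toMonoidHom))) :
    RealisableOver F₀ (matrixSet P) := by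
  obtain ⟨C, hC⟩ := h
  refine ⟨C * B, ?_⟩
  rintro _ ⟨x, hx, rfl⟩ i j
  have h1 := hC _ ⟨_, Subgroup.mem_map_of_mem _ hx, rfl⟩ i j
  have e : ((C * B : GL (Fin 3) F) : Matrix (Fin 3) (Fin 3) F) * (x : Matrix (Fin 3) (Fin 3) F) *
      (((C * B)⁻¹ : GL (Fin 3) F) : Matrix (Fin 3) (Fin 3) F) =
      (C : Matrix (Fin 3) (Fin 3) F) * ((B * x * B⁻¹ : GL (Fin 3) F) : Matrix (Fin 3) (Fin 3) F) *
        ((C⁻¹ : GL (Fin 3) F) : Matrix (Fin 3) (Fin 3) F) := by
    simp [mul_assoc]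
  rw [e]
  exact h1

/-- A change of basis of the whole setup. -/
theorem Setup.conj [Fintype F] {p γ α : ℕ} {ρ : H →* PG F} {P : Subgroup (GL (Fin 3) F)}
    (h : Setup p γ α ρ P) (B : GL (Fin 3) F) :
    ∃ ρ₁ : H →* PG F, Setup p γ α ρ₁ (P.map (MulAut.conj B).toMonoidHom) := by
  have hP : (P.map (MulAut.conj B).toMonoidHom).map (MulAut.conj B⁻¹).toMonoidHom = P := by
    rw [Subgroup.map_map]
    convert Subgroup.map_id P
    ext g
    simp [MulAut.conj_apply, mul_assoc]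
  have hpre : Pre ρ ((P.map (MulAut.conj B).toMonoidHom).map (MulAut.conj B⁻¹).toMonoidHom) := by
    rw [hP]; exact h.pre
  obtain ⟨ρ₁, h1, hmem⟩ := Pre.pull (respectsScalars_conj B⁻¹) (MulAut.conj B⁻¹).injective hpre
    (algOf_map_conj B h.span) (fun g _ => ⟨B * g * B⁻¹, by simp [mul_assoc]⟩)
  refine ⟨ρ₁, h1.setup h.card h.dvd h.hp (fun F₀ hF₀ hr => h.nosub F₀ hF₀ (realisable_map_conj B hr)) ?_⟩
  intro g hg hno
  refine h.cube _ ((hmem g).1 hg) fun x hx => hno x ?_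
  rw [hx]
  exact det_conj B⁻¹ g

/-! ### The field of definition -/

theorem respectsScalars_map (F₀ : Subfield F) :
    RespectsScalars (Matrix.GeneralLinearGroup.map (n := Fin 3) (F₀.subtype : F₀ →+* F)) := by
  intro g
  rw [mem_scalars_iff, mem_scalars_iff]
  constructor
  · rintro ⟨c, hc⟩
    have h00 : ((g : Matrix (Fin 3) (Fin 3) F₀) 0 0 : F) = (c : F) := by
      have := congrFun (congrFun hc 0) 0
      simpa using this
    have hne : (g : Matrix (Fin 3) (Fin 3) F₀) 0 0 ≠ 0 := fun h => c.ne_zero (by rw [← h00, h]; rfl)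
    refine ⟨Units.mk0 _ hne, ?_⟩
    ext i j
    have := congrFun (congrFun hc i) j
    rw [Matrix.smul_apply, smul_eq_mul, ← h00] at this
    rw [Matrix.smul_apply, smul_eq_mul, Subfield.coe_mul]
    refine this.trans ?_
    rw [Units.val_mk0]
    by_cases hij : i = j
    · subst hij; simp
    · simp [hij]
  · rintro ⟨c, hc⟩
    refine ⟨Units.map (F₀.subtype : F₀ →+* F).toMonoidHom c, ?_⟩
    ext i j
    show (F₀.subtype) ((g : Matrix (Fin 3) (Fin 3) F₀) i j) = _
    rw [hc]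
    by_cases hij : i = j
    · subst hij; simp
    · simp [hij]

theorem map_subtype_injective (F₀ : Subfield F) :
    Function.Injective (Matrix.GeneralLinearGroup.map (n := Fin 3) (F₀.subtype : F₀ →+* F)) := by
  intro a b hab
  refine Units.ext (Matrix.ext fun i j => Subtype.ext ?_)
  exact congrArg (fun x : GL (Fin 3) F => (x : Matrix (Fin 3) (Fin 3) F) i j) hab

/-- Matrices over a subfield spanning over the big field span over the small one. -/
theorem span_descend [Fintype F] {F₀ : Subfield F} {P₀ : Subgroup (GL (Fin 3) F₀)}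
    (h : algOf (P₀.map (Matrix.GeneralLinearGroup.map (F₀.subtype : F₀ →+* F))) = ⊤) :
    Submodule.span F₀ (matrixSet P₀) = ⊤ := by
  classical
  by_contra hne
  obtain ⟨ψ, hψ0, hψT⟩ := Submodule.exists_dual_map_eq_bot_of_lt_top (lt_top_iff_ne_top.2 hne) inferInstance
  apply hψ0
  let Ψ : Matrix (Fin 3) (Fin 3) F →ₗ[F] F :=
    ∑ i, ∑ j, (ψ (Matrix.single i j 1) : F) • Matrix.entryLinearMap F F i j
  have hΨ : ∀ X : Matrix (Fin 3) (Fin 3) F₀, Ψ (X.map (F₀.subtype : F₀ →+* F)) = (ψ X : F) := by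
    intro X
    conv_rhs => rw [Matrix.matrix_eq_sum_single X, map_sum]
    rw [AddSubmonoidClass.coe_finsetSum]
    simp only [Ψ, LinearMap.sum_apply, LinearMap.smul_apply, Matrix.entryLinearMap_apply, smul_eq_mul]
    refine Finset.sum_congr rfl fun i _ => ?_
    rw [map_sum, AddSubmonoidClass.coe_finsetSum]
    refine Finset.sum_congr rfl fun j _ => ?_
    rw [show Matrix.single i j (X i j) = X i j • Matrix.single i j (1 : F₀) by
      rw [Matrix.smul_single, smul_eq_mul, mul_one], map_smul]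
    exact mul_comm _ _
  have hall : (⊤ : Submodule F (Matrix (Fin 3) (Fin 3) F)) ≤ LinearMap.ker Ψ := by
    rw [← span_matrixSet_eq_top h, Submodule.span_le]
    rintro _ ⟨_, ⟨x, hx, rfl⟩, rfl⟩
    have h1 : ψ (x : Matrix (Fin 3) (Fin 3) F₀) ∈ Submodule.map ψ (Submodule.span F₀ (matrixSet P₀)) :=
      Submodule.mem_map_of_mem (Submodule.subset_span ⟨x, hx, rfl⟩)
    rw [hψT, Submodule.mem_bot] at h1
    show Ψ ((x : Matrix (Fin 3) (Fin 3) F₀).map (F₀.subtype : F₀ →+* F)) = 0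
    rw [hΨ, h1]
    rfl
  refine LinearMap.ext fun X => Subtype.ext ?_
  rw [← hΨ X]
  exact LinearMap.mem_ker.1 (hall Submodule.mem_top)

/-- The normaliser of a spanning group over a subfield is that of the subfield times scalars. -/
theorem exists_rational_normaliser [Fintype F] {F₀ : Subfield F} {P₀ : Subgroup (GL (Fin 3) F₀)}
    (hspan : Submodule.span F₀ (matrixSet P₀) = ⊤) {g : GL (Fin 3) F}
    (hg : ∀ x ∈ P₀, g * Matrix.GeneralLinearGroup.map (F₀.subtype : F₀ →+* F) x * g⁻¹ ∈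
      P₀.map (Matrix.GeneralLinearGroup.map (F₀.subtype : F₀ →+* F))) :
    ∃ g₀ : GL (Fin 3) F₀,
      (g : PG F) = ((Matrix.GeneralLinearGroup.map (F₀.subtype : F₀ →+* F) g₀ : GL (Fin 3) F) : PG F) := by
  classical
  set s : Matrix (Fin 3) (Fin 3) F₀ →+* Matrix (Fin 3) (Fin 3) F := (F₀.subtype : F₀ →+* F).mapMatrix with hs
  let T : Submodule F₀ (Matrix (Fin 3) (Fin 3) F₀) :=
    { carrier := {X | ∀ i j, conjHom g (s X) i j ∈ F₀}
      add_mem' := fun {X Y} hX hY i j => by rw [map_add, map_add]; exact F₀.add_mem (hX i j) (hY i j)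
      zero_mem' := fun i j => by rw [map_zero, map_zero]; exact F₀.zero_mem
      smul_mem' := fun c X hX i j => by
        have : s (c • X) = (c : F) • s X := by ext a b; rfl
        rw [this, map_smul]
        exact F₀.mul_mem c.2 (hX i j) }
  have hT : T = ⊤ := by
    rw [eq_top_iff, ← hspan, Submodule.span_le]
    rintro _ ⟨x, hx, rfl⟩ i j
    obtain ⟨y, -, hy⟩ := hg x hx
    show conjHom g (s (x : Matrix (Fin 3) (Fin 3) F₀)) i j ∈ F₀
    have e : conjHom g (s (x : Matrix (Fin 3) (Fin 3) F₀)) =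
        ((g * Matrix.GeneralLinearGroup.map (F₀.subtype : F₀ →+* F) x * g⁻¹ : GL (Fin 3) F) :
          Matrix (Fin 3) (Fin 3) F) := rfl
    rw [e, ← hy]
    exact ((y : Matrix (Fin 3) (Fin 3) F₀) i j).2
  have hent : ∀ i j k l, (g : Matrix (Fin 3) (Fin 3) F) k i *
      ((g⁻¹ : GL (Fin 3) F) : Matrix (Fin 3) (Fin 3) F) j l ∈ F₀ := by
    intro i j k l
    have h1 : conjHom g (s (Matrix.single i j (1 : F₀))) k l ∈ F₀ :=
      (hT ▸ Submodule.mem_top : Matrix.single i j (1 : F₀) ∈ T) k l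
    have e : s (Matrix.single i j (1 : F₀)) = Matrix.single i j (1 : F) := by
      ext a b; simp [hs, Matrix.single_apply, apply_ite]
    rw [e, conjHom_apply] at h1
    simpa [Matrix.mul_apply, Matrix.single_apply, Finset.sum_ite_eq, Finset.sum_ite_eq', ite_and,
      mul_ite, ite_mul] using h1
  obtain ⟨j, l, hd⟩ : ∃ j l, ((g⁻¹ : GL (Fin 3) F) : Matrix (Fin 3) (Fin 3) F) j l ≠ 0 := by
    by_contra hall
    push Not at hall
    have : ((g⁻¹ : GL (Fin 3) F) : Matrix (Fin 3) (Fin 3) F) = 0 := Matrix.ext hall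
    exact (g⁻¹).ne_zero this
  set d := ((g⁻¹ : GL (Fin 3) F) : Matrix (Fin 3) (Fin 3) F) j l with hdd
  let M : Matrix (Fin 3) (Fin 3) F₀ := Matrix.of fun a b => ⟨(g : Matrix (Fin 3) (Fin 3) F) a b * d, hent b j a l⟩
  have hM : s M = d • (g : Matrix (Fin 3) (Fin 3) F) := by
    ext a b
    exact mul_comm _ _
  have hdet : M.det ≠ 0 := by
    intro h0
    have h1 : (s M).det = 0 := by
      rw [hs, ← RingHom.map_det, h0, map_zero]
    rw [hM, Matrix.det_smul] at h1
    exact mul_ne_zero (pow_ne_zero _ hd) (Matrix.GeneralLinearGroup.det_ne_zero g) h1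
  refine ⟨Matrix.GeneralLinearGroup.mkOfDetNeZero M hdet, ?_⟩
  rw [QuotientGroup.eq]
  refine (mem_scalars_iff _).2 ⟨Units.mk0 d hd, ?_⟩
  rw [Units.val_mul]
  show ((g⁻¹ : GL (Fin 3) F) : Matrix (Fin 3) (Fin 3) F) * s M = _
  rw [hM, Matrix.mul_smul, Units.inv_mul, Units.val_mk0]

end CfsgLib.DimThreeSub
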