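import Cfsg.Agent.Lib.DimThreeSub.Conic
import Cfsg.Agent.Lib.DimThreeSub.Transport
import Cfsg.Agent.Lib.DimThreeSub.Models
import Cfsg.Agent.Lib.PSL2.MinimalSimple
import Cfsg.Agent.Lib.ClassicalGroups.SmallIso

/-!
# The socle fixes a quadratic form
-/

set_option autoImplicit false
set_option linter.unusedSectionVars false

namespace CfsgLib.DimThreeSub

open Cfsg Cfsg.Geo Matrix CfsgLib.Geo.Asch
open scoped MatrixGroups

universe u v

variable {F : Type u} [Field F] [Fintype F]

theorem Setup.finite {H : Type v} [Group H] {p γ α : ℕ} {ρ : H →* PG F} {P : Subgroup (GL (Fin 3) F)}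
    (hS : Setup p γ α ρ P) : Finite H :=
  Finite.of_injective ρ hS.inj

/-- The socle forces insolubility. -/
theorem Setup.not_solvable {H : Type v} [Group H] {p γ α : ℕ} {ρ : H →* PG F} {P : Subgroup (GL (Fin 3) F)}
    (hS : Setup p γ α ρ P) : ¬ Group.IsSolvable H := by
  intro hsol
  set T : Subgroup H := (P.map (QuotientGroup.mk' (scalars (Fin 3) F))).comap ρ with hT
  have hTmap : T.map ρ = P.map (QuotientGroup.mk' (scalars (Fin 3) F)) := by
    refine Subgroup.map_comap_eq_self ?_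
    rintro _ ⟨x, hx, rfl⟩
    exact hS.le hx
  have hperf : ⁅T, T⁆ = T := by
    refine Subgroup.map_injective hS.inj ?_
    rw [Subgroup.map_commutator, hTmap, ← Subgroup.map_commutator, hS.perfect]
  haveI : Nontrivial T := by
    rw [Subgroup.nontrivial_iff_ne_bot]
    intro hb
    apply hS.nscal
    intro x hx
    have : (QuotientGroup.mk' (scalars (Fin 3) F)) x ∈ T.map ρ := hTmap ▸ Subgroup.mem_map_of_mem _ hx
    rw [hb, Subgroup.map_bot, Subgroup.mem_bot] at this
    exact (QuotientGroup.eq_one_iff x).1 this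
  exact (Group.IsSolvable.commutator_lt_top_of_nontrivial T).ne (commutator_subtype_top hperf)

/-- **The quadratic case.** -/
theorem concl_quad {H : Type v} [Group H] {p γ α : ℕ} [Fact p.Prime] {ρ : H →* PG F}
    {P : Subgroup (GL (Fin 3) F)} (hS : Setup p γ α ρ P) {Q : (Fin 3 → F) → F}
    (hQ : IsNondegenerateQuadraticForm Q) (hfix : FixesQuadForm (matrixSet P) Q) :
    Concl p α H := by
  classical
  haveI : Finite H := hS.finite
  haveI hchar : CharP F p := charP_of_card_eq_prime_pow hS.card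
  have h2 : (2 : F) ≠ 0 := by
    intro h
    have h' : ((2 : ℕ) : F) = 0 := by exact_mod_cast h
    exact hS.hp ((Nat.prime_dvd_prime_iff_eq Fact.out Nat.prime_two).1 ((CharP.cast_eq_zero_iff F p 2).1 h'))
  obtain ⟨ψ, hψ⟩ := exists_proj_two h2 hQ
  have hle : lifts ρ ≤ quadSimilarityGroup Q :=
    (le_similarityGroup hS.span hS.normal (RingEquiv.refl F) (polar_isSesq hQ) hQ.nondegenerate
      (fixesForm_polar hfix)).trans (polar_similarity hQ h2)
  -- the embedding into the projective group of rank two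
  have hex : ∀ a : H, ∃ g : quadSimilarityGroup Q, ρ a = ((g : GL (Fin 3) F) : PG F) := fun a => by
    obtain ⟨g, hg⟩ := QuotientGroup.mk_surjective (ρ a)
    exact ⟨⟨g, hle ⟨a, hg.symm⟩⟩, hg.symm⟩
  choose r hr using hex
  have hwd : ∀ g g' : quadSimilarityGroup Q, ((g : GL (Fin 3) F) : PG F) = ((g' : GL (Fin 3) F) : PG F) →
      ψ g = ψ g' := fun g g' h => by
    rw [← inv_mul_eq_one, ← map_inv, ← map_mul, hψ]
    exact QuotientGroup.eq.1 h
  let φ : H →* ProjGenLinGroup (Fin 2) F := MonoidHom.mk' (fun a => ψ (r a)) fun a b => by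
    rw [← map_mul]
    refine hwd _ _ ?_
    rw [← hr, map_mul, hr, hr]
    rfl
  have hφ : Function.Injective φ := (injective_iff_map_eq_one φ).2 fun a ha => by
    have h1 : ((r a : quadSimilarityGroup Q) : GL (Fin 3) F) ∈ scalars (Fin 3) F := (hψ _).1 ha
    refine (map_eq_one_iff ρ hS.inj).1 ?_
    rw [hr, QuotientGroup.eq_one_iff]
    exact h1
  have hns := hS.not_solvable
  rcases CfsgLib.PSL2.dickson_strong p φ hφ with ⟨x, hx⟩ | ⟨hc, -⟩ | ⟨C, -, -, ⟨e⟩⟩ | ⟨⟨e⟩⟩ | ⟨⟨e⟩⟩ |
    ⟨-, ⟨e⟩⟩ | ⟨S, -, hiso⟩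
  · exact absurd (CfsgLib.PSL2.isSolvable_of_fix ((CfsgLib.PSL2.pglPerm F).comp φ)
      (CfsgLib.PSL2.pglPerm_injective.comp hφ) (fun g => CfsgLib.PSL2.pglPerm_mem_range _) hx) hns
  · letI := IsCyclic.commGroup (α := H)
    exact absurd (Group.isSolvable_of_comm mul_comm) hns
  · haveI := CfsgLib.PSL2.isSolvable_dihedral (Nat.card C)
    exact absurd (Group.isSolvable_of_isSolvable_injective (f := e.toMonoidHom) e.injective) hns
  · haveI := CfsgLib.InvCharSmall.isSolvable_perm_four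
    exact absurd (Group.isSolvable_of_isSolvable_injective
      (f := (alternatingGroup (Fin 4)).subtype.comp e.toMonoidHom)
      ((alternatingGroup (Fin 4)).subtype_injective.comp e.injective)) hns
  · haveI := CfsgLib.InvCharSmall.isSolvable_perm_four
    exact absurd (Group.isSolvable_of_isSolvable_injective (f := e.toMonoidHom) e.injective) hns
  · haveI : Fact (Nat.Prime 5) := ⟨Nat.prime_five⟩
    obtain ⟨e5⟩ := CfsgLib.ClassicalGroups.psl_two_five_alternating (K := ZMod 5) (ZMod.card 5)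
    by_cases hp5 : p = 5
    · subst hp5
      exact Or.inr (Or.inr (Or.inr (Or.inr (Or.inl ⟨ZMod 5, inferInstance, inferInstance, 1,
        by rw [ZMod.card, pow_one], one_dvd _, by norm_num, Or.inl ⟨e.trans e5.symm⟩⟩))))
    refine Or.inr (Or.inr (Or.inr (Or.inr (Or.inr (Or.inl
      ⟨?_, ZMod 5, inferInstance, inferInstance, ZMod.card 5, ⟨e.trans e5.symm⟩⟩)))))
    have hH : Nat.card H = 60 := by rw [Nat.card_congr e.toEquiv, CfsgLib.PSL2.card_alt_five]
    have hd : 60 ∣ Nat.card (ProjGenLinGroup (Fin 2) F) := by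
      rw [← hH]
      rw [Nat.card_congr (MonoidHom.ofInjective hφ).toEquiv]
      exact Subgroup.card_subgroup_dvd_card _
    rw [CfsgLib.PSL2.card_pgl] at hd
    set q0 := Fintype.card F with hq0
    have hqp : q0 = p ^ γ := hS.card
    have h5 : ¬ 5 ∣ q0 := fun h => by
      rw [hqp] at h
      exact hp5 ((Nat.prime_dvd_prime_iff_eq Nat.prime_five Fact.out).1 (Nat.prime_five.dvd_of_dvd_pow h)).symm
    have hodd : q0 % 2 = 1 := by
      rw [hqp, Nat.pow_mod, Nat.odd_iff.1 ((Fact.out : p.Prime).odd_of_ne_two hS.hp), one_pow]; rfl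
    obtain ⟨k, hk⟩ := hS.dvd
    rw [show p ^ α = q0 ^ k by rw [hqp, ← pow_mul, ← hk]]
    have hq : q0 % 10 = 1 ∨ q0 % 10 = 9 := by
      have h5' : 5 ∣ (q0 + 1) * (q0 * (q0 - 1)) := dvd_trans (by norm_num) hd
      rcases (Nat.prime_five).dvd_mul.1 h5' with h | h
      · omega
      · have := (Nat.prime_five.dvd_mul.1 h).resolve_left h5
        omega
    rw [Nat.pow_mod]
    rcases hq with h | h <;> rw [h]
    · simp
    · rcases Nat.even_or_odd k with ⟨j, rfl⟩ | ⟨j, rfl⟩
      · left; rw [← two_mul, pow_mul, Nat.pow_mod]; simp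
      · right; rw [pow_add, pow_mul, Nat.mul_mod, Nat.pow_mod]; simp
  · -- subfield groups
    haveI : Fintype S := Fintype.ofFinite S
    haveI : CharP S p := (RingHom.charP_iff (S.subtype) Subtype.val_injective p).2 hchar
    obtain ⟨δ, -, hδ⟩ := FiniteField.card S p
    have hδγ : (δ : ℕ) ∣ γ := by
      haveI : FiniteDimensional S F := Module.Finite.of_finite
      have h := Module.natCard_eq_pow_finrank (K := S) (V := F)
      rw [Nat.card_eq_fintype_card, Nat.card_eq_fintype_card, hS.card, hδ, ← pow_mul] at h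
      exact ⟨_, Nat.pow_right_injective (Fact.out : p.Prime).two_le h⟩
    obtain ⟨K, hKf, hKfin, hK, ⟨eK⟩⟩ := exists_small_field hδ
    have hne : p ^ (δ : ℕ) ≠ 3 := by
      intro h3
      apply hns
      refine CfsgLib.InvCharRankFour.isSolvable_of_dvd_two_three (i := 3) (j := 1) ?_
      rw [← hδ] at h3
      have hd : Nat.card (ProjectiveSpecialLinearGroup (Fin 2) S) ∣ 24 ∧
          Nat.card (ProjGenLinGroup (Fin 2) S) ∣ 24 := by
        have h1 := CfsgLib.PSL2.card_psl (F := S)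
        have h2 := CfsgLib.PSL2.card_pgl (F := S)
        rw [h3] at h1 h2
        refine ⟨Dvd.intro_left _ (h1.trans (by norm_num)), ?_⟩
        rw [h2]
      rcases hiso with ⟨⟨f⟩⟩ | ⟨⟨f⟩⟩ <;> rw [Nat.card_congr f.toEquiv]
      exacts [hd.1, hd.2]
    refine Or.inr (Or.inr (Or.inr (Or.inr (Or.inl ⟨K, hKf, hKfin, δ, hK, hδγ.trans hS.dvd, hne, ?_⟩))))
    rcases hiso with ⟨⟨f⟩⟩ | ⟨⟨f⟩⟩
    · exact Or.inl ⟨f.trans (pslEquiv 2 eK)⟩
    · exact Or.inr ⟨f.trans (pglEquiv 2 eK)⟩

end CfsgLib.DimThreeSub
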