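import Cfsg.Agent.Lib.DimThreeSub.Core

/-!
# Eigenvalue obstructions in dimension three
-/

set_option autoImplicit false
set_option linter.unusedSectionVars false

namespace CfsgLib.DimThreeSub

open Cfsg Cfsg.Geo Matrix
open scoped MatrixGroups

universe u

variable {F : Type u} [Field F]

/-- A matrix of finite order prime to the characteristic with a single eigenvalue one is trivial. -/
theorem eq_one_of_spectrum {L : Type*} [Field L] [IsAlgClosed L] {M : Matrix (Fin 3) (Fin 3) L} {r : ℕ}
    (hr : (r : L) ≠ 0) (hM : M ^ r = 1) (h : ∀ μ ∈ spectrum L M, μ = 1) : M = 1 := by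
  classical
  have hroots : M.charpoly.roots = Multiset.replicate (Multiset.card M.charpoly.roots) 1 := by
    refine Multiset.eq_replicate_card.2 fun a ha => h a ?_
    rw [Matrix.mem_spectrum_iff_isRoot_charpoly]
    exact (Polynomial.mem_roots M.charpoly_monic.ne_zero).1 ha
  have hsplit : M.charpoly.Splits := IsAlgClosed.splits _
  have hcard : Multiset.card M.charpoly.roots = 3 := by
    rw [← hsplit.natDegree_eq_card_roots, Matrix.charpoly_natDegree_eq_dim, Fintype.card_fin]
  have hcp : M.charpoly = (Polynomial.X - Polynomial.C 1) ^ 3 := by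
    rw [hsplit.eq_prod_roots_of_monic M.charpoly_monic, hroots, hcard, Multiset.map_replicate,
      Multiset.prod_replicate]
  have h3 : (M - 1) ^ 3 = 0 := by
    have := Matrix.aeval_self_charpoly M
    rw [hcp] at this
    simpa using this
  set N := M - 1 with hN
  have hMN : M = 1 + N := by rw [hN]; abel
  have key : ∀ n : ℕ, M ^ n = 1 + (n : L) • N + ((n.choose 2 : ℕ) : L) • N ^ 2 := by
    intro n
    induction n with
    | zero => simp
    | succ n ih =>
      rw [pow_succ, ih, hMN, Nat.choose_succ_succ', Nat.choose_one_right]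
      have h3' : N ^ 2 * N = 0 := by rw [← pow_succ]; exact h3
      simp only [add_mul, mul_add, one_mul, mul_one, Matrix.smul_mul, h3', smul_zero, add_zero,
        Nat.cast_add, add_smul, Nat.cast_one, one_smul, ← pow_two]
      abel
  have e := key r
  rw [hM, add_assoc, eq_comm, add_eq_left] at e
  have e2 : (r : L) • N ^ 2 = 0 := by
    have h4 := congrArg (· * N) e
    simp only [add_mul, Matrix.smul_mul, zero_mul, ← pow_two, ← pow_succ, h3, smul_zero, add_zero] at h4
    exact h4
  have hN2 : N ^ 2 = 0 := (smul_eq_zero.1 e2).resolve_left hr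
  rw [hN2, smul_zero, add_zero] at e
  rw [hMN, (smul_eq_zero.1 e).resolve_left hr, add_zero]

/-- An element of prime order cannot be conjugate to a power generating four distinct exponents. -/
theorem no_power_conj {r k : ℕ} (hr : r.Prime) (hrF : (r : F) ≠ 0)
    (hk : ∀ i j : Fin 4, k ^ (i : ℕ) % r = k ^ (j : ℕ) % r → i = j) {x g : GL (Fin 3) F}
    (hx : x ^ r = 1) (hx1 : x ≠ 1) (hg : g * x * g⁻¹ = x ^ k) : False := by
  classical
  let ι : F →+* AlgebraicClosure F := algebraMap F _
  let X : GL (Fin 3) (AlgebraicClosure F) := Matrix.GeneralLinearGroup.map ι x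
  let G : GL (Fin 3) (AlgebraicClosure F) := Matrix.GeneralLinearGroup.map ι g
  set M : Matrix (Fin 3) (Fin 3) (AlgebraicClosure F) := (X : Matrix (Fin 3) (Fin 3) (AlgebraicClosure F))
    with hMdef
  have hrL : (r : AlgebraicClosure F) ≠ 0 := by
    rw [← map_natCast ι]; exact fun h => hrF ((map_eq_zero ι).1 h)
  have hM : M ^ r = 1 := by
    rw [hMdef, ← Units.val_pow_eq_pow_val, ← map_pow, hx, map_one, Units.val_one]
  have hMk : ((G : Matrix (Fin 3) (Fin 3) (AlgebraicClosure F))) * M *
      ((G⁻¹ : GL (Fin 3) (AlgebraicClosure F)) : Matrix (Fin 3) (Fin 3) (AlgebraicClosure F)) = M ^ k := by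
    rw [hMdef, ← Units.val_mul, ← Units.val_mul, ← map_inv, ← map_mul, ← map_mul, hg, map_pow,
      Units.val_pow_eq_pow_val]
  obtain ⟨μ, hμ, hμ1⟩ : ∃ μ ∈ spectrum (AlgebraicClosure F) M, μ ≠ 1 := by
    by_contra hall
    push Not at hall
    refine hx1 (Units.ext ?_)
    have h1 := eq_one_of_spectrum hrL hM hall
    ext i j
    refine ι.injective ?_
    have := congrFun (congrFun h1 i) j
    rw [Units.val_one]
    refine this.trans ?_
    by_cases hij : i = j
    · subst hij; simp
    · simp [hij]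
  have hμr : μ ^ r = 1 := by
    have := spectrum.pow_mem_pow M r hμ
    rw [hM, spectrum.one_eq, Set.mem_singleton_iff] at this
    exact this
  have hord : orderOf μ = r := (hr.eq_one_or_self_of_dvd _ (orderOf_dvd_of_pow_eq_one hμr)).resolve_left
    fun h => hμ1 (orderOf_eq_one_iff.1 h)
  have hstep : ∀ ν ∈ spectrum (AlgebraicClosure F) M, ν ^ k ∈ spectrum (AlgebraicClosure F) M := by
    intro ν hν
    have h1 := spectrum.pow_mem_pow M k hν
    rw [← hMk, spectrum.units_conjugate] at h1
    exact h1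
  have hmem : ∀ n : ℕ, μ ^ (k ^ n) ∈ spectrum (AlgebraicClosure F) M := by
    intro n
    induction n with
    | zero => simpa using hμ
    | succ n ih => rw [pow_succ, pow_mul]; exact hstep _ ih
  have hinj : Function.Injective fun i : Fin 4 => μ ^ (k ^ (i : ℕ)) := by
    intro i j hij
    refine hk i j ?_
    have h2 : μ ^ (k ^ (i : ℕ) % r) = μ ^ (k ^ (j : ℕ) % r) := by
      rw [← hord, pow_mod_orderOf, pow_mod_orderOf]; exact hij
    exact pow_injOn_Iio_orderOf (by rw [hord]; exact Nat.mod_lt _ hr.pos)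
      (by rw [hord]; exact Nat.mod_lt _ hr.pos) h2
  have hle : (Finset.univ.image fun i : Fin 4 => μ ^ (k ^ (i : ℕ))) ⊆ M.charpoly.roots.toFinset := by
    intro a ha
    obtain ⟨i, -, rfl⟩ := Finset.mem_image.1 ha
    rw [Multiset.mem_toFinset, Polynomial.mem_roots M.charpoly_monic.ne_zero]
    exact Matrix.mem_spectrum_iff_isRoot_charpoly.1 (hmem i)
  have h4 := Finset.card_le_card hle
  rw [Finset.card_image_of_injective _ hinj, Finset.card_univ, Fintype.card_fin] at h4
  have h5 := (Multiset.toFinset_card_le M.charpoly.roots).trans (Polynomial.card_roots' M.charpoly)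
  rw [Matrix.charpoly_natDegree_eq_dim, Fintype.card_fin] at h5
  omega

/-- Common eigenvectors with distinct pairs of eigenvalues are independent. -/
theorem linearIndependent_joint {L V ι : Type*} [Field L] [AddCommGroup V] [Module L V] (A B : Module.End L V)
    (v : ι → V) (a b : ι → L) (hv : ∀ i, v i ≠ 0) (hA : ∀ i, A (v i) = a i • v i)
    (hB : ∀ i, B (v i) = b i • v i) (hinj : Function.Injective fun i => (a i, b i)) :
    LinearIndependent L v := by
  classical
  rw [linearIndependent_iff']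
  intro s
  induction s using Finset.induction with
  | empty => simp
  | insert j s hj ih =>
    intro c hc
    have hrest : ∀ i ∈ s, c i = 0 := by
      intro i hi
      have hij : i ≠ j := fun h => hj (h ▸ hi)
      have hsplit : a i ≠ a j ∨ b i ≠ b j := by
        by_contra hcon
        push Not at hcon
        exact hij (hinj (Prod.ext hcon.1 hcon.2))
      rcases hsplit with h | h
      · have h1 := congrArg (fun w => A w - a j • w) hc
        simp only [map_zero, smul_zero, sub_zero, map_sum, Finset.smul_sum, map_smul, hA] at h1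
        rw [Finset.sum_insert hj, Finset.sum_insert hj, smul_comm (c j), add_sub_add_left_eq_sub,
          ← Finset.sum_sub_distrib] at h1
        have h2 : ∑ k ∈ s, (c k * (a k - a j)) • v k = 0 := by
          rw [← h1]
          refine Finset.sum_congr rfl fun k _ => ?_
          rw [smul_smul, smul_smul, ← sub_smul]
          congr 1
          ring
        exact (mul_eq_zero.1 (ih _ h2 i hi)).resolve_right (sub_ne_zero.2 h)
      · have h1 := congrArg (fun w => B w - b j • w) hc
        simp only [map_zero, smul_zero, sub_zero, map_sum, Finset.smul_sum, map_smul, hB] at h1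
        rw [Finset.sum_insert hj, Finset.sum_insert hj, smul_comm (c j), add_sub_add_left_eq_sub,
          ← Finset.sum_sub_distrib] at h1
        have h2 : ∑ k ∈ s, (c k * (b k - b j)) • v k = 0 := by
          rw [← h1]
          refine Finset.sum_congr rfl fun k _ => ?_
          rw [smul_smul, smul_smul, ← sub_smul]
          congr 1
          ring
        exact (mul_eq_zero.1 (ih _ h2 i hi)).resolve_right (sub_ne_zero.2 h)
    intro i hi
    rcases Finset.mem_insert.1 hi with rfl | hi
    · rw [Finset.sum_insert hj, Finset.sum_eq_zero fun k hk => by rw [hrest k hk, zero_smul], add_zero] at hc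
      exact (smul_eq_zero.1 hc).resolve_right (hv i)
    · exact hrest i hi

/-- Two commuting elements of exponent three modulo scalars cannot be rotated in order four. -/
theorem no_rotation (h3 : (3 : F) ≠ 0) {x y g : GL (Fin 3) F} (hxy : x * y = y * x)
    (hx : x ^ 9 = 1) (hxs : x ∉ scalars (Fin 3) F) (hx3 : x ^ 3 ∈ scalars (Fin 3) F)
    (hy3 : y ^ 3 ∈ scalars (Fin 3) F) {s t : GL (Fin 3) F} (hs : s ∈ scalars (Fin 3) F)
    (ht : t ∈ scalars (Fin 3) F) (hgx : g * x * g⁻¹ = x * y * s) (hgy : g * y * g⁻¹ = x * y⁻¹ * t) :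
    False := by
  classical
  let L := AlgebraicClosure F
  let ι : F →+* L := algebraMap F _
  let φ : GL (Fin 3) F →* GL (Fin 3) L := Matrix.GeneralLinearGroup.map ι
  obtain ⟨e₁', he₁⟩ := (mem_scalars_iff _).1 hx3
  obtain ⟨e₂', he₂⟩ := (mem_scalars_iff _).1 hy3
  obtain ⟨c₁', hc₁⟩ := (mem_scalars_iff _).1 hs
  obtain ⟨c₂', hc₂⟩ := (mem_scalars_iff _).1 ht
  have hsc : ∀ (z : GL (Fin 3) F) (c : Fˣ), (z : Matrix (Fin 3) (Fin 3) F) = (c : F) • 1 →
      ∀ v, Matrix.toLin' (φ z : Matrix (Fin 3) (Fin 3) L) v = ι c • v := by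
    intro z c hz v
    have e : (φ z : Matrix (Fin 3) (Fin 3) L) = ι c • 1 := by
      show (z : Matrix (Fin 3) (Fin 3) F).map ι = _
      rw [hz]
      ext i j
      by_cases hij : i = j
      · subst hij; simp
      · simp [hij]
    rw [e, Matrix.toLin'_apply, Matrix.smul_mulVec, Matrix.one_mulVec]
  let E : GL (Fin 3) F →* Module.End L (Fin 3 → L) :=
    { toFun := fun z => Matrix.toLin' (φ z : Matrix (Fin 3) (Fin 3) L)
      map_one' := by rw [map_one, Units.val_one, Matrix.toLin'_one]; rfl
      map_mul' := fun a b => by rw [map_mul, Units.val_mul, Matrix.toLin'_mul]; rfl }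
  have hinvl : ∀ (z : GL (Fin 3) F) v, E z⁻¹ (E z v) = v := fun z v => by
    rw [← Module.End.mul_apply, ← map_mul, inv_mul_cancel, map_one, Module.End.one_apply]
  -- the action of `g` on pairs of eigenvalues
  let C : L × L → L × L := fun w => (w.1 * w.2 * ι c₁', w.1 / w.2 * ι c₂')
  have hstep : ∀ a b v, v ≠ 0 → E x v = a • v → E y v = b • v → b ≠ 0 ∧
      ∃ w, w ≠ 0 ∧ E x w = (C (a, b)).1 • w ∧ E y w = (C (a, b)).2 • w := by
    intro a b v hv ha hb
    have hb0 : b ≠ 0 := fun h => hv (by rw [← hinvl y v, hb, h, zero_smul, map_zero])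
    refine ⟨hb0, E g⁻¹ v, fun h => hv ?_, ?_, ?_⟩
    · rw [← hinvl g⁻¹ v, h, map_zero]
    · have e1 : x * g⁻¹ = g⁻¹ * (x * y * s) := by rw [← hgx]; group
      have hsv : E s v = ι c₁' • v := hsc _ _ hc₁ v
      rw [← Module.End.mul_apply, ← map_mul, e1]
      simp only [map_mul, Module.End.mul_apply, map_smul, hsv, hb, ha, smul_smul]
      congr 1
      show _ = a * b * ι c₁'
      ring
    · have e1 : y * g⁻¹ = g⁻¹ * (x * y⁻¹ * t) := by rw [← hgy]; group
      have hbi : E y⁻¹ v = b⁻¹ • v := by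
        have h1 := hinvl y v
        rw [hb, map_smul] at h1
        rw [eq_inv_smul_iff₀ hb0]
        exact h1
      have hsv : E t v = ι c₂' • v := hsc _ _ hc₂ v
      rw [← Module.End.mul_apply, ← map_mul, e1]
      simp only [map_mul, Module.End.mul_apply, map_smul, hsv, hbi, ha, smul_smul]
      congr 1
      show _ = a / b * ι c₂'
      ring
  have hcube : ∀ a b v, v ≠ 0 → E x v = a • v → E y v = b • v → a ^ 3 = ι e₁' ∧ b ^ 3 = ι e₂' := by
    intro a b v hv ha hb
    constructor
    · refine smul_left_injective L hv ?_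
      show a ^ 3 • v = ι e₁' • v
      rw [← hsc _ _ he₁ v]
      show _ = E (x ^ 3) v
      rw [show x ^ 3 = x * (x * x) from pow_three x]
      simp only [map_mul, Module.End.mul_apply, map_smul, ha, smul_smul]
      rw [pow_three, mul_assoc]
    · refine smul_left_injective L hv ?_
      show b ^ 3 • v = ι e₂' • v
      rw [← hsc _ _ he₂ v]
      show _ = E (y ^ 3) v
      rw [show y ^ 3 = y * (y * y) from pow_three y]
      simp only [map_mul, Module.End.mul_apply, map_smul, hb, smul_smul]
      rw [pow_three, mul_assoc]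
  -- a common eigenvector above each eigenvalue of `x`
  have hjoint : ∀ a, a ∈ spectrum L (φ x : Matrix (Fin 3) (Fin 3) L) →
      ∃ (b : L) (v : Fin 3 → L), v ≠ 0 ∧ E x v = a • v ∧ E y v = b • v := by
    intro a ha
    rw [← Matrix.spectrum_toLin', ← Module.End.hasEigenvalue_iff_mem_spectrum] at ha
    set W := Module.End.eigenspace (E x) a with hW
    haveI : Nontrivial W := Submodule.nontrivial_iff_ne_bot.2 ha
    have hmaps : ∀ w ∈ W, E y w ∈ W := by
      intro w hw
      rw [hW, Module.End.mem_eigenspace_iff] at hw ⊢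
      rw [← Module.End.mul_apply, ← map_mul, hxy, map_mul, Module.End.mul_apply, hw, map_smul]
    obtain ⟨b, hb⟩ := Module.End.exists_eigenvalue ((E y).restrict hmaps)
    obtain ⟨w, hw⟩ := hb.exists_hasEigenvector
    refine ⟨b, w.1, fun h => hw.2 (Subtype.ext h), Module.End.mem_eigenspace_iff.1 w.2, ?_⟩
    have := congrArg Subtype.val hw.apply_eq_smul
    simpa using this
  -- two eigenvalues of `x`
  obtain ⟨a₁, ha₁⟩ : (spectrum L (φ x : Matrix (Fin 3) (Fin 3) L)).Nonempty :=
    spectrum.nonempty_of_isAlgClosed_of_finiteDimensional L _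
  obtain ⟨a₂, ha₂, hne⟩ : ∃ a₂ ∈ spectrum L (φ x : Matrix (Fin 3) (Fin 3) L), a₂ ≠ a₁ := by
    by_contra hall
    push Not at hall
    apply hxs
    obtain ⟨b, v, hv, hav, hbv⟩ := hjoint a₁ ha₁
    have ha9 : a₁ ^ 9 = 1 := by
      have := spectrum.pow_mem_pow (φ x : Matrix (Fin 3) (Fin 3) L) 9 ha₁
      rw [← Units.val_pow_eq_pow_val, ← map_pow, hx, map_one, Units.val_one, spectrum.one_eq,
        Set.mem_singleton_iff] at this
      exact this
    have ha0 : a₁ ≠ 0 := fun h => by rw [h, zero_pow (by simp)] at ha9; exact zero_ne_one ha9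
    set M := a₁⁻¹ • (φ x : Matrix (Fin 3) (Fin 3) L) with hM
    have hM9 : M ^ 9 = 1 := by
      rw [hM, smul_pow, inv_pow, ha9, inv_one, one_smul, ← Units.val_pow_eq_pow_val, ← map_pow, hx,
        map_one, Units.val_one]
    have h9 : ((9 : ℕ) : L) ≠ 0 := by
      rw [show (9 : ℕ) = 3 * 3 from rfl, Nat.cast_mul, ← map_natCast ι 3]
      refine mul_ne_zero ?_ ?_ <;> exact fun h => h3 (by simpa using (map_eq_zero ι).1 h)
    have h1 := eq_one_of_spectrum h9 hM9 (fun μ hμ => by
      haveI : Nontrivial (Matrix (Fin 3) (Fin 3) L) := inferInstance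
      rw [hM, spectrum.smul_eq_smul _ _ ⟨a₁, ha₁⟩] at hμ
      obtain ⟨ν, hν, rfl⟩ := hμ
      rw [hall ν hν]
      exact inv_mul_cancel₀ ha0)
    have h2 : (φ x : Matrix (Fin 3) (Fin 3) L) = a₁ • 1 := by
      rw [← h1, hM, smul_smul, mul_inv_cancel₀ ha0, one_smul]
    have h00 : ι ((x : Matrix (Fin 3) (Fin 3) F) 0 0) = a₁ := by
      have := congrFun (congrFun h2 0) 0
      simp at this
      exact this
    have hx00 : (x : Matrix (Fin 3) (Fin 3) F) 0 0 ≠ 0 := fun h => ha0 (by rw [← h00, h, map_zero])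
    refine (mem_scalars_iff x).2 ⟨Units.mk0 _ hx00, ?_⟩
    ext i j
    apply ι.injective
    have := congrFun (congrFun h2 i) j
    refine this.trans ?_
    rw [← h00]
    by_cases hij : i = j
    · subst hij; simp
    · simp [hij]
  set d₁ := ι c₁' ^ 2 * ι c₂' with hd₁
  have hC2 : ∀ w : L × L, w.2 ≠ 0 → (C w).2 ≠ 0 → C (C w) = (w.1 ^ 2 * d₁, w.2 ^ 2 * ι c₁') := by
    intro w hw hw'
    have h1 : w.1 ≠ 0 := fun h => hw' (by simp [C, h])
    have h2 : ι c₂' ≠ 0 := fun h => hw' (by simp [C, h])
    ext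
    · show (w.1 * w.2 * ι c₁') * (w.1 / w.2 * ι c₂') * ι c₁' = _
      rw [hd₁]
      calc _ = w.1 ^ 2 * (ι c₁' ^ 2 * ι c₂') * (w.2 * w.2⁻¹) := by ring
        _ = _ := by rw [mul_inv_cancel₀ hw, mul_one]
    · show (w.1 * w.2 * ι c₁') / (w.1 / w.2 * ι c₂') * ι c₂' = _
      rw [div_eq_mul_inv, div_eq_mul_inv, mul_inv, mul_inv, inv_inv]
      calc _ = w.2 ^ 2 * ι c₁' * (w.1 * w.1⁻¹) * (ι c₂' * (ι c₂')⁻¹) := by ring
        _ = _ := by rw [mul_inv_cancel₀ h1, mul_inv_cancel₀ h2, mul_one, mul_one]
  -- choose a pair not fixed by the square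
  have hd0 : d₁ ≠ 0 := mul_ne_zero (pow_ne_zero _ (fun h => c₁'.ne_zero ((map_eq_zero ι).1 h)))
    (fun h => c₂'.ne_zero ((map_eq_zero ι).1 h))
  obtain ⟨a, ha, had⟩ : ∃ a ∈ spectrum L (φ x : Matrix (Fin 3) (Fin 3) L), a * d₁ ≠ 1 := by
    by_contra hall
    push Not at hall
    exact hne (mul_right_cancel₀ hd0 ((hall a₂ ha₂).trans (hall a₁ ha₁).symm))
  obtain ⟨b, v, hv, hav, hbv⟩ := hjoint a ha
  let W : ℕ → L × L := fun n => C^[n] (a, b)
  have hW : ∀ n, ∃ w, w ≠ 0 ∧ E x w = (W n).1 • w ∧ E y w = (W n).2 • w := by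
    intro n
    induction n with
    | zero => exact ⟨v, hv, hav, hbv⟩
    | succ n ih =>
      obtain ⟨w, hw, h1, h2⟩ := ih
      obtain ⟨-, w', hw', h1', h2'⟩ := hstep _ _ w hw h1 h2
      refine ⟨w', hw', ?_, ?_⟩ <;> simp only [W, Function.iterate_succ_apply'] <;> assumption
  have hW0 : ∀ n, (W n).2 ≠ 0 := fun n => by
    obtain ⟨w, hw, h1, h2⟩ := hW n
    exact (hstep _ _ w hw h1 h2).1
  have hWs : ∀ n, W (n + 1) = C (W n) := fun n => Function.iterate_succ_apply' C n _
  have hW2 : ∀ n, W (n + 2) = ((W n).1 ^ 2 * d₁, (W n).2 ^ 2 * ι c₁') := fun n => by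
    rw [hWs (n + 1), hWs n]
    exact hC2 _ (hW0 n) (hWs n ▸ hW0 (n + 1))
  have hW3 : ∀ n, (W n).1 ^ 3 = ι e₁' ∧ (W n).2 ^ 3 = ι e₂' := fun n => by
    obtain ⟨w, hw, h1, h2⟩ := hW n
    exact hcube _ _ w hw h1 h2
  have ha0 : a ≠ 0 := fun h => hv (by rw [← hinvl x v, hav, h, zero_smul, map_zero])
  have hb0 : b ≠ 0 := hW0 0
  have he1 : ι e₁' * d₁ ^ 3 = 1 := by
    have h := (hW3 2).1
    rw [hW2 0] at h
    have e : ((W 0).1 ^ 2 * d₁) ^ 3 = ((W 0).1 ^ 3) ^ 2 * d₁ ^ 3 := by ring
    rw [e, (hW3 0).1, pow_two] at h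
    exact mul_left_cancel₀ (fun h' => ha0 (pow_eq_zero_iff (n := 3) (by norm_num) |>.1 ((hW3 0).1.trans h'))) (by linear_combination h)
  have he2 : ι e₂' * ι c₁' ^ 3 = 1 := by
    have h := (hW3 2).2
    rw [hW2 0] at h
    have e : ((W 0).2 ^ 2 * ι c₁') ^ 3 = ((W 0).2 ^ 3) ^ 2 * ι c₁' ^ 3 := by ring
    rw [e, (hW3 0).2, pow_two] at h
    exact mul_left_cancel₀ (fun h' => hb0 (pow_eq_zero_iff (n := 3) (by norm_num) |>.1 ((hW3 0).2.trans h'))) (by linear_combination h)
  have hW4 : W 4 = W 0 := by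
    rw [hW2 2, hW2 0]
    ext
    · show ((W 0).1 ^ 2 * d₁) ^ 2 * d₁ = (W 0).1
      calc _ = (W 0).1 * ((W 0).1 ^ 3 * d₁ ^ 3) := by ring
        _ = _ := by rw [(hW3 0).1, he1, mul_one]
    · show ((W 0).2 ^ 2 * ι c₁') ^ 2 * ι c₁' = (W 0).2
      calc _ = (W 0).2 * ((W 0).2 ^ 3 * ι c₁' ^ 3) := by ring
        _ = _ := by rw [(hW3 0).2, he2, mul_one]
  have hper : ∀ n, W (n + 4) = W n := by
    intro n
    induction n with
    | zero => exact hW4
    | succ n ih => rw [show n + 1 + 4 = (n + 4) + 1 by ring, hWs, ih, hWs]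
  have hfix2 : ∀ n, W (n + 2) ≠ W n := by
    intro n h
    have h0 : W 2 = W 0 := by
      have : ∀ m, W (n + 2 + m) = W (n + m) := by
        intro m
        induction m with
        | zero => exact h
        | succ m ih => rw [← add_assoc, ← add_assoc, hWs, ih, hWs]
      have h4 := this (3 * n)
      have hk : ∀ k m, W (m + 4 * k) = W m := by
        intro k
        induction k with
        | zero => simp
        | succ k ih => intro m; rw [show m + 4 * (k + 1) = (m + 4 * k) + 4 by ring, hper, ih]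
      rw [show n + 2 + 3 * n = 2 + 4 * n by ring, show n + 3 * n = 0 + 4 * n by ring, hk, hk] at h4
      exact h4
    rw [hW2 0] at h0
    apply had
    have h1 : a ^ 2 * d₁ = a := congrArg Prod.fst h0
    exact mul_left_cancel₀ ha0 (by linear_combination h1)
  have hdist : Function.Injective fun i : Fin 4 => W i := by
    have hnsucc : ∀ n, W (n + 1) ≠ W n := fun n h => hfix2 n (by rw [hWs (n + 1), h, ← hWs, h])
    have h03 : W 3 ≠ W 0 := fun h => hnsucc 3 (by rw [hper 0, h])
    intro i j hij
    fin_cases i <;> fin_cases j <;> simp only at hij ⊢ <;>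
      first
        | rfl
        | exact absurd hij.symm (hnsucc 0)
        | exact absurd hij (hnsucc 0)
        | exact absurd hij.symm (hnsucc 1)
        | exact absurd hij (hnsucc 1)
        | exact absurd hij.symm (hnsucc 2)
        | exact absurd hij (hnsucc 2)
        | exact absurd hij.symm (hfix2 0)
        | exact absurd hij (hfix2 0)
        | exact absurd hij.symm (hfix2 1)
        | exact absurd hij (hfix2 1)
        | exact absurd hij.symm h03
        | exact absurd hij h03
  choose w hw hwx hwy using hW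
  have hli := linearIndependent_joint (E x) (E y) (fun i : Fin 4 => w i) (fun i => (W i).1) (fun i => (W i).2)
    (fun i => hw i) (fun i => hwx i) (fun i => hwy i) (fun i j h => hdist h)
  have h4 := hli.fintype_card_le_finrank
  rw [Fintype.card_fin, Module.finrank_fin_fun] at h4
  omega

end CfsgLib.DimThreeSub
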