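import Cfsg.Agent.Lib.DimThreeSub.Socle
import Cfsg.Agent.Lib.DimThreeSub.Spectral
import Cfsg.Agent.Lib.ClassicalGroups.SmallIso

/-!
# The socle is simple of order 168
-/

set_option autoImplicit false
set_option linter.unusedSectionVars false

namespace CfsgLib.DimThreeSub

open Cfsg Cfsg.Geo Matrix CfsgLib.AutPSL
open scoped MatrixGroups

universe u v

local instance factPrimeSeven : Fact (Nat.Prime 7) := ⟨by norm_num⟩
local instance factPrimeTwo : Fact (Nat.Prime 2) := ⟨Nat.prime_two⟩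

/-- The diagonal element of non-square determinant. -/
def dSeven : GL (Fin 2) (ZMod 7) :=
  ⟨!![3, 0; 0, 1], !![5, 0; 0, 1], by decide, by decide⟩

/-- A translation. -/
def uSeven : Matrix.SpecialLinearGroup (Fin 2) (ZMod 7) := ⟨!![1, 1; 0, 1], by decide⟩

theorem uSeven_not_central : uSeven ∉ Subgroup.center (Matrix.SpecialLinearGroup (Fin 2) (ZMod 7)) := by
  intro h
  have := Subgroup.mem_center_iff.1 h ⟨!![1, 0; 1, 1], by decide⟩
  revert this
  decide

/-- **The socle of order 168.** -/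
theorem concl_seven {F : Type u} [Field F] [Fintype F] {H : Type v} [Group H] {p γ α : ℕ} [Fact p.Prime]
    {ρ : H →* PG F} {P : Subgroup (GL (Fin 3) F)} (hS : Setup p γ α ρ P)
    (hiso : Nonempty ((P ⧸ (scalars (Fin 3) F).subgroupOf P) ≃* Matrix.ProjectiveSpecialLinearGroup (Fin 3) (ZMod 2)))
    (hres : (p ^ γ) ^ 3 % 7 = 1) : Concl p α H := by
  haveI : CharP F p := charP_of_card_eq_prime_pow hS.card
  have hF7 : ((7 : ℕ) : F) ≠ 0 := by
    intro h
    have hp7 := (Nat.prime_dvd_prime_iff_eq Fact.out (by norm_num : Nat.Prime 7)).1 ((CharP.cast_eq_zero_iff F p 7).1 h)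
    subst hp7
    rcases Nat.eq_zero_or_pos γ with rfl | hγ
    · exact absurd hS.card (by rw [pow_zero]; exact Fintype.one_lt_card.ne')
    · rw [Nat.pow_mod, Nat.pow_mod 7 γ, Nat.mod_self, zero_pow (by omega)] at hres
      simp at hres
  obtain ⟨e0⟩ := hS.socle_equiv
  obtain ⟨e1⟩ := hiso
  obtain ⟨e2⟩ := CfsgLib.ClassicalGroups.psl_two_seven_psl_three_two (K := ZMod 7) (L := ZMod 2)
    (ZMod.card 7) (ZMod.card 2)
  let e : socle ρ P ≃* PSLG 2 (ZMod 7) := e0.trans (e1.trans e2.symm)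
  have hall : ∀ h : H, h ∈ socle ρ P := by
    intro h
    obtain ⟨g, σ, hβ⟩ := exists_semilinear (act hS.socle_normal e h)
    obtain rfl : σ = RingEquiv.refl (ZMod 7) :=
      RingEquiv.toRingHom_injective (Subsingleton.elim _ _)
    rw [show fieldAut (n := 2) (RingEquiv.refl (ZMod 7)) = 1 from map_one fieldAut, mul_one] at hβ
    have hd : ∀ d : ZMod 7, d ≠ 0 → ∃ c, c * c = d ∨ c * c = 5 * d := by decide
    obtain ⟨c, hc | hc⟩ := hd _ (Matrix.GeneralLinearGroup.det_ne_zero g)
    · obtain ⟨m, hm⟩ := conjAut_inner hc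
      exact hS.mem_socle_of_inner e (hβ.trans hm)
    · exfalso
      have hc' : c * c = ((g * dSeven⁻¹ : GL (Fin 2) (ZMod 7)) : Matrix (Fin 2) (Fin 2) (ZMod 7)).det := by
        rw [hc, Units.val_mul, Matrix.det_mul, mul_comm]
        congr 1
      obtain ⟨m, hm⟩ := conjAut_inner hc'
      rw [map_mul, map_inv, mul_inv_eq_iff_eq_mul] at hm
      obtain ⟨h', hh', -⟩ := hS.exists_reduced e (hβ.trans hm)
      set a : PSLG 2 (ZMod 7) := (uSeven : PSLG 2 (ZMod 7)) with ha
      have hrel : conjAut dSeven a = a ^ 3 := by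
        rw [ha, conjAut_mk, ← QuotientGroup.mk_pow]
        exact congrArg _ (Subtype.ext (by decide))
      have ha7 : a ^ 7 = 1 := by
        rw [ha, ← QuotientGroup.mk_pow, show uSeven ^ 7 = 1 from Subtype.ext (by decide)]
        rfl
      have ha1 : a ≠ 1 := fun h1 => uSeven_not_central ((QuotientGroup.eq_one_iff uSeven).1 h1)
      obtain ⟨x, k, hx7, hx1, hk⟩ := hS.exact_conj (r := 7) (k := 3) (a := ((e.symm a : socle ρ P) : H))
        (h := h') (by norm_num) (e.symm a).2
        (by rw [← Subgroup.coe_pow, ← map_pow, ha7, map_one]; rfl)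
        (fun h1 => ha1 (e.symm.injective (Subtype.ext (h1.trans (by rw [map_one]; rfl)))))
        (by rw [← act_apply hS.socle_normal e h' a, hh', hrel, map_pow]; rfl)
      exact no_power_conj (by norm_num) hF7 (by decide) hx7 hx1 hk
  obtain ⟨f⟩ := equiv_of_socle_top e hall
  refine Or.inr (Or.inr (Or.inr (Or.inr (Or.inr (Or.inr (Or.inl
    ⟨?_, ZMod 7, inferInstance, inferInstance, ZMod.card 7, ⟨f⟩⟩))))))
  obtain ⟨k, hk⟩ := hS.dvd
  rw [hk, pow_mul, ← pow_mul, mul_comm k 3, pow_mul, Nat.pow_mod, hres, one_pow]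
  rfl

end CfsgLib.DimThreeSub
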