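import Cfsg.Agent.Lib.DimThreeSub.Socle
import Cfsg.Agent.Lib.DimThreeSub.Spectral
import Cfsg.Agent.Lib.ClassicalGroups.SmallIso

/-!
# The socle is alternating of degree six
-/

set_option autoImplicit false
set_option linter.unusedSectionVars false

namespace CfsgLib.DimThreeSub

open Cfsg Cfsg.Geo Matrix CfsgLib.Geo.Asch CfsgLib.AutPSL CfsgLib.ClassicalGroups
open scoped MatrixGroups

universe u v

local instance factPrimeThree : Fact (Nat.Prime 3) := ⟨Nat.prime_three⟩
attribute [local instance] CfsgLib.ClassicalGroups.nineField_irreducible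

/-- A primitive element of the field with nine elements. -/
def nuNine : NineField := ⟨-1, 1⟩

/-- The non-trivial automorphism of the field with nine elements. -/
def frobNine : NineField ≃+* NineField where
  toFun x := ⟨x.re, -x.im⟩
  invFun x := ⟨x.re, -x.im⟩
  left_inv x := by ext <;> simp
  right_inv x := by ext <;> simp
  map_mul' := by decide +kernel
  map_add' := by decide +kernel

theorem nine_aut (σ : NineField ≃+* NineField) : σ = 1 ∨ σ = frobNine := by
  have hrel : nuNine * nuNine = nuNine + 1 := by decide +kernel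
  have hroots : ∀ y : NineField, y * y = y + 1 → y = nuNine ∨ y = frobNine nuNine := by decide +kernel
  have hex : ∀ x : NineField, ∃ a b : Fin 3, x = (a : ℕ) + (b : ℕ) * nuNine := by decide +kernel
  have hy : σ nuNine * σ nuNine = σ nuNine + 1 := by rw [← map_mul, hrel, map_add, map_one]
  rcases hroots _ hy with h | h
  · refine Or.inl (RingEquiv.ext fun x => ?_)
    obtain ⟨a, b, rfl⟩ := hex x
    rw [map_add, map_mul, map_natCast, map_natCast, h]
    rfl
  · refine Or.inr (RingEquiv.ext fun x => ?_)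
    obtain ⟨a, b, rfl⟩ := hex x
    rw [map_add, map_mul, map_natCast, map_natCast, h, map_add, map_mul, map_natCast, map_natCast]

/-- The diagonal element of non-square determinant. -/
def dNine : GL (Fin 2) NineField :=
  ⟨!![nuNine, 0; 0, 1], !![⟨1, 1⟩, 0; 0, 1], by decide +kernel, by decide +kernel⟩

/-- The translations `x ↦ x + 1` and `x ↦ x + ν`. -/
def uNine (c : NineField) : Matrix.SpecialLinearGroup (Fin 2) NineField :=
  ⟨!![1, c; 0, 1], by simp [Matrix.det_fin_two]⟩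

/-- The torus element of order four. -/
def tNine : Matrix.SpecialLinearGroup (Fin 2) NineField :=
  ⟨!![nuNine, 0; 0, ⟨1, 1⟩], by decide +kernel⟩

/-- An element of order five. -/
def xNine : Matrix.SpecialLinearGroup (Fin 2) NineField :=
  ⟨!![0, -1; 1, -nuNine], by decide +kernel⟩

/-- A conjugating element. -/
def sNine : Matrix.SpecialLinearGroup (Fin 2) NineField :=
  ⟨!![nuNine * nuNine * ⟨1, 1⟩, -(nuNine * nuNine); 0, -nuNine * (nuNine * nuNine)] , by decide +kernel⟩

theorem not_central_u (c : NineField) (hc : c ≠ 0) :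
    uNine c ∉ Subgroup.center (Matrix.SpecialLinearGroup (Fin 2) NineField) := by
  intro h
  have h1 := Subgroup.mem_center_iff.1 h ⟨!![1, 0; 1, 1], by simp [Matrix.det_fin_two]⟩
  revert h1 hc
  revert c
  decide +kernel

theorem not_central_x : xNine ∉ Subgroup.center (Matrix.SpecialLinearGroup (Fin 2) NineField) := by
  intro h
  have h1 := Subgroup.mem_center_iff.1 h (uNine 1)
  revert h1
  decide +kernel

/-- **The socle alternating of degree six.** -/
theorem concl_six {F : Type u} [Field F] [Fintype F] {H : Type v} [Group H] {p γ α : ℕ} [Fact p.Prime]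
    {ρ : H →* PG F} {P : Subgroup (GL (Fin 3) F)} (hS : Setup p γ α ρ P)
    (hiso : Nonempty ((P ⧸ (scalars (Fin 3) F).subgroupOf P) ≃* alternatingGroup (Fin 6))) (hp3 : p ≠ 3)
    (hcase : (p ≠ 5 ∧ ((p ^ γ) % 30 = 1 ∨ (p ^ γ) % 30 = 19)) ∨ (p = 5 ∧ Even γ)) : Concl p α H := by
  haveI : CharP F p := charP_of_card_eq_prime_pow hS.card
  have h3F : (3 : F) ≠ 0 := by
    intro h
    have h' : ((3 : ℕ) : F) = 0 := by exact_mod_cast h
    exact hp3 ((Nat.prime_dvd_prime_iff_eq Fact.out Nat.prime_three).1 ((CharP.cast_eq_zero_iff F p 3).1 h'))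
  obtain ⟨e0⟩ := hS.socle_equiv
  obtain ⟨e1⟩ := hiso
  obtain ⟨e2⟩ := psl_two_nine_alternating (K := NineField) card_nineField
  let e : socle ρ P ≃* PSLG 2 NineField := e0.trans (e1.trans e2.symm)
  set a : PSLG 2 NineField := (uNine 1 : PSLG 2 NineField) with ha
  set b : PSLG 2 NineField := (uNine nuNine : PSLG 2 NineField) with hb
  have ha1 : a ≠ 1 := fun h => not_central_u 1 one_ne_zero ((QuotientGroup.eq_one_iff (uNine 1)).1 h)
  have hab : a * b = b * a := by
    rw [ha, hb, ← QuotientGroup.mk_mul, ← QuotientGroup.mk_mul]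
    exact congrArg _ (Subtype.ext (by decide +kernel))
  have ha3 : a ^ 3 = 1 := by
    rw [ha, ← QuotientGroup.mk_pow, show uNine 1 ^ 3 = 1 from Subtype.ext (by decide +kernel)]; rfl
  have hb3 : b ^ 3 = 1 := by
    rw [hb, ← QuotientGroup.mk_pow, show uNine nuNine ^ 3 = 1 from Subtype.ext (by decide +kernel)]; rfl
  -- matrices above the two translations
  obtain ⟨x, hx, hxa⟩ := mem_socle.1 (e.symm a).2
  obtain ⟨y, hy, hyb⟩ := mem_socle.1 (e.symm b).2
  let ω : GL (Fin 3) F := x * y * x⁻¹ * y⁻¹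
  have hωs : ω ∈ scalars (Fin 3) F := by
    rw [← QuotientGroup.eq_one_iff]
    show ((x * y * x⁻¹ * y⁻¹ : GL (Fin 3) F) : PG F) = 1
    rw [QuotientGroup.mk_mul, QuotientGroup.mk_mul, QuotientGroup.mk_mul, QuotientGroup.mk_inv,
      QuotientGroup.mk_inv, hxa, hyb, ← map_inv, ← map_inv, ← map_mul, ← map_mul, ← map_mul,
      ← Subgroup.coe_inv, ← Subgroup.coe_inv, ← Subgroup.coe_mul, ← Subgroup.coe_mul, ← Subgroup.coe_mul,
      ← map_inv e.symm, ← map_inv e.symm, ← map_mul e.symm, ← map_mul e.symm, ← map_mul e.symm, hab,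
      mul_inv_cancel_right, mul_inv_cancel, map_one, Subgroup.coe_one, map_one]
  have hωd : (ω : Matrix (Fin 3) (Fin 3) F).det = 1 :=
    hS.det_eq_one (P.mul_mem (P.mul_mem (P.mul_mem hx hy) (P.inv_mem hx)) (P.inv_mem hy))
  -- images of the translations under a matrix inducing a model automorphism
  have hrel : ∀ (h : H) (g : GL (Fin 3) F), (g : PG F) = ρ h → ∀ (m m' : PSLG 2 NineField) (z z' : GL (Fin 3) F),
      ((z : GL (Fin 3) F) : PG F) = ρ (e.symm m : H) → ((z' : GL (Fin 3) F) : PG F) = ρ (e.symm m' : H) →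
      act hS.socle_normal e h m = m' → ∃ s ∈ scalars (Fin 3) F, g * z * g⁻¹ = z' * s := by
    intro h g hg m m' z z' hz hz' hm
    refine ⟨z'⁻¹ * (g * z * g⁻¹), ?_, by group⟩
    rw [← QuotientGroup.eq, hz', QuotientGroup.mk_mul, QuotientGroup.mk_mul, QuotientGroup.mk_inv, hz, hg,
      ← map_inv, ← map_mul, ← map_mul, ← act_apply hS.socle_normal e h m, hm]
  have hprod : ∀ (m m' : PSLG 2 NineField) (z z' : GL (Fin 3) F),
      ((z : GL (Fin 3) F) : PG F) = ρ (e.symm m : H) → ((z' : GL (Fin 3) F) : PG F) = ρ (e.symm m' : H) →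
      ((z * z' : GL (Fin 3) F) : PG F) = ρ (e.symm (m * m') : H) := by
    intro m m' z z' hz hz'
    rw [QuotientGroup.mk_mul, hz, hz', ← map_mul, map_mul e.symm]
    rfl
  have hinv : ∀ (m : PSLG 2 NineField) (z : GL (Fin 3) F),
      ((z : GL (Fin 3) F) : PG F) = ρ (e.symm m : H) →
      ((z⁻¹ : GL (Fin 3) F) : PG F) = ρ (e.symm m⁻¹ : H) := by
    intro m z hz
    rw [QuotientGroup.mk_inv, hz, ← map_inv, map_inv e.symm]
    rfl
  -- the lifts of the translations do not commute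
  have hω : ω ≠ 1 := by
    intro h1
    have hxy : x * y = y * x := by
      have h2 : x * y * x⁻¹ * y⁻¹ = 1 := h1
      rwa [mul_inv_eq_one, mul_inv_eq_iff_eq_mul] at h2
    obtain ⟨g, hg⟩ := QuotientGroup.mk_surjective (ρ (e.symm (tNine : PSLG 2 NineField) : H))
    have hact := act_symm hS.socle_normal e (tNine : PSLG 2 NineField)
    obtain ⟨s, hs, hgx⟩ := hrel _ g hg a (a * b) x (x * y) hxa (hprod _ _ _ _ hxa hyb) (by
      rw [hact, MulAut.conj_apply, ha, hb, ← QuotientGroup.mk_inv, ← QuotientGroup.mk_mul,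
        ← QuotientGroup.mk_mul, ← QuotientGroup.mk_mul]
      exact congrArg _ (Subtype.ext (by decide +kernel)))
    obtain ⟨t, ht, hgy⟩ := hrel _ g hg b (a * b⁻¹) y (x * y⁻¹) hyb (hprod _ _ _ _ hxa (hinv _ _ hyb)) (by
      rw [hact, MulAut.conj_apply, ha, hb, ← QuotientGroup.mk_inv, ← QuotientGroup.mk_inv,
        ← QuotientGroup.mk_mul, ← QuotientGroup.mk_mul, ← QuotientGroup.mk_mul]
      exact congrArg _ (Subtype.ext (by decide +kernel)))
    have hpow : ∀ (m : PSLG 2 NineField) (z : GL (Fin 3) F), m ^ 3 = 1 →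
        ((z : GL (Fin 3) F) : PG F) = ρ (e.symm m : H) → z ^ 3 ∈ scalars (Fin 3) F := by
      intro m z hm hz
      rw [← QuotientGroup.eq_one_iff, QuotientGroup.mk_pow, hz, ← map_pow, ← Subgroup.coe_pow, ← map_pow e.symm,
        hm, map_one, Subgroup.coe_one, map_one]
    refine no_rotation h3F hxy ?_ ?_ (hpow a x ha3 hxa) (hpow b y hb3 hyb) hs ht hgx hgy
    · rw [show (9 : ℕ) = 3 * 3 from rfl, pow_mul,
        scalar_cube (hpow a x ha3 hxa) (hS.det_eq_one (P.pow_mem hx 3))]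
    · intro hxs
      apply ha1
      apply e.symm.injective
      rw [map_one]
      refine Subtype.ext ((map_eq_one_iff ρ hS.inj).1 ?_)
      rw [← hxa]
      exact (QuotientGroup.eq_one_iff x).2 hxs
  have hω2 : ω * ω ≠ 1 := fun h => hω (scalar_mul_self_eq_one hωd hωs h)
  have hωc := scalars_comm hωs
  -- diagonal and field automorphisms are not induced
  have kill : ∀ (h : H) (ma mb : PSLG 2 NineField) (za zb : GL (Fin 3) F),
      ((za : GL (Fin 3) F) : PG F) = ρ (e.symm ma : H) → ((zb : GL (Fin 3) F) : PG F) = ρ (e.symm mb : H) →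
      za * zb * za⁻¹ * zb⁻¹ = ω⁻¹ →
      act hS.socle_normal e h a = ma → act hS.socle_normal e h b = mb → False := by
    intro h ma mb za zb hza hzb hcom hma hmb
    obtain ⟨g, hg⟩ := QuotientGroup.mk_surjective (ρ h)
    obtain ⟨s, hs, h1⟩ := hrel h g hg a ma x za hxa hza hma
    obtain ⟨t, ht, h2⟩ := hrel h g hg b mb y zb hyb hzb hmb
    have hcs := scalars_comm hs
    have hct := scalars_comm ht
    have e1 : g * ω * g⁻¹ = (g * x * g⁻¹) * (g * y * g⁻¹) * (g * x * g⁻¹)⁻¹ * (g * y * g⁻¹)⁻¹ := by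
      show g * (x * y * x⁻¹ * y⁻¹) * g⁻¹ = _
      group
    have e2 : (za * s) * (zb * t) * (za * s)⁻¹ * (zb * t)⁻¹ = za * zb * za⁻¹ * zb⁻¹ := by
      calc (za * s) * (zb * t) * (za * s)⁻¹ * (zb * t)⁻¹
          = za * (s * zb) * t * s⁻¹ * za⁻¹ * t⁻¹ * zb⁻¹ := by group
        _ = za * zb * (s * t) * s⁻¹ * za⁻¹ * t⁻¹ * zb⁻¹ := by rw [hcs zb]; group
        _ = za * zb * (t * za⁻¹) * t⁻¹ * zb⁻¹ := by rw [hcs t]; group
        _ = _ := by rw [hct za⁻¹]; group
    rw [h1, h2, e2, hcom, ← hωc g, mul_inv_cancel_right] at e1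
    exact hω2 (mul_eq_one_iff_eq_inv.2 e1)
  have hnotd : ∀ h : H, act hS.socle_normal e h ≠ conjAut dNine := by
    intro h hh
    refine kill h b (a * b) y (x * y) hyb (hprod _ _ _ _ hxa hyb) ?_ ?_ ?_
    · show y * (x * y) * y⁻¹ * (x * y)⁻¹ = (x * y * x⁻¹ * y⁻¹)⁻¹
      group
    · rw [hh, ha, hb, conjAut_mk]
      exact congrArg _ (Subtype.ext (by decide +kernel))
    · rw [hh, ha, hb, conjAut_mk, ← QuotientGroup.mk_mul]
      exact congrArg _ (Subtype.ext (by decide +kernel))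
  have hnots : ∀ h : H, act hS.socle_normal e h ≠ fieldAut frobNine := by
    intro h hh
    refine kill h a (a * b⁻¹) x (x * y⁻¹) hxa (hprod _ _ _ _ hxa (hinv _ _ hyb)) ?_ ?_ ?_
    · show x * (x * y⁻¹) * x⁻¹ * (x * y⁻¹)⁻¹ = (x * y * x⁻¹ * y⁻¹)⁻¹
      show x * (x * y⁻¹) * x⁻¹ * (x * y⁻¹)⁻¹ = ω⁻¹
      calc x * (x * y⁻¹) * x⁻¹ * (x * y⁻¹)⁻¹
          = x * (y⁻¹ * (x * y * x⁻¹ * y⁻¹)⁻¹ * y) * x⁻¹ := by group
        _ = x * (y⁻¹ * (ω⁻¹ * y)) * x⁻¹ := by simp only [ω, mul_assoc]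
        _ = x * ω⁻¹ * x⁻¹ := by
            rw [scalars_comm (inv_mem hωs) y, inv_mul_cancel_left]
        _ = ω⁻¹ := by rw [← scalars_comm (inv_mem hωs) x, mul_inv_cancel_right]
    · rw [hh, ha, fieldAut_mk]
      exact congrArg _ (Subtype.ext (by decide +kernel))
    · rw [hh, ha, hb, fieldAut_mk, ← QuotientGroup.mk_inv, ← QuotientGroup.mk_mul]
      exact congrArg _ (Subtype.ext (by decide +kernel))
  have hcoset : ∀ h : H, h ∈ socle ρ P ∨ ∃ h' : H,
      act hS.socle_normal e h' = conjAut dNine * fieldAut frobNine ∧ h' * h⁻¹ ∈ socle ρ P := by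
    intro h
    obtain ⟨g, σ, hβ⟩ := exists_semilinear (act hS.socle_normal e h)
    have hd : ∀ d : NineField, d ≠ 0 → ∃ c, c * c = d ∨ c * c = d * ⟨1, 1⟩ := by decide +kernel
    obtain ⟨c, hc | hc⟩ := hd _ (Matrix.GeneralLinearGroup.det_ne_zero g)
    · obtain ⟨m, hm⟩ := conjAut_inner hc
      rw [hm] at hβ
      rcases nine_aut σ with rfl | rfl
      · rw [map_one, mul_one] at hβ
        exact Or.inl (hS.mem_socle_of_inner e hβ)
      · obtain ⟨h', hh', -⟩ := hS.exists_reduced e hβ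
        exact absurd hh' (hnots h')
    · have hc' : c * c = ((g * dNine⁻¹ : GL (Fin 2) NineField) : Matrix (Fin 2) (Fin 2) NineField).det := by
        rw [hc, Units.val_mul, Matrix.det_mul]
        congr 1
      obtain ⟨m, hm⟩ := conjAut_inner hc'
      rw [map_mul, map_inv, mul_inv_eq_iff_eq_mul] at hm
      rw [hm, mul_assoc] at hβ
      rcases nine_aut σ with rfl | rfl
      · rw [map_one, mul_one] at hβ
        obtain ⟨h', hh', -⟩ := hS.exists_reduced e hβ
        exact absurd hh' (hnotd h')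
      · obtain ⟨h', hh', hiff⟩ := hS.exists_reduced e hβ
        exact Or.inr ⟨h', hh', hiff⟩
  rcases hcase with ⟨hp5, hq⟩ | ⟨rfl, heven⟩
  · have hall : ∀ h : H, h ∈ socle ρ P := by
      intro h
      rcases hcoset h with hh | ⟨h', hh', -⟩
      · exact hh
      exfalso
      have h5F : ((5 : ℕ) : F) ≠ 0 := fun h5 =>
        hp5 ((Nat.prime_dvd_prime_iff_eq Fact.out Nat.prime_five).1 ((CharP.cast_eq_zero_iff F p 5).1 h5))
      set c : PSLG 2 NineField := (xNine : PSLG 2 NineField) with hcdef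
      have hc5 : c ^ 5 = 1 := by
        rw [hcdef, ← QuotientGroup.mk_pow, show xNine ^ 5 = 1 from Subtype.ext (by decide +kernel)]; rfl
      have hc1 : c ≠ 1 := fun h1 => not_central_x ((QuotientGroup.eq_one_iff xNine).1 h1)
      set h'' := (e.symm (sNine : PSLG 2 NineField) : H) * h' with hh''
      have hrel5 : act hS.socle_normal e h'' c = c ^ 2 := by
        rw [hh'', map_mul, act_symm, hh', hcdef, MulAut.mul_apply, MulAut.mul_apply, fieldAut_mk, conjAut_mk,
          MulAut.conj_apply, ← QuotientGroup.mk_inv, ← QuotientGroup.mk_mul, ← QuotientGroup.mk_mul,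
          ← QuotientGroup.mk_pow]
        exact congrArg _ (Subtype.ext (by decide +kernel))
      obtain ⟨z, k, hz5, hz1, hk⟩ := hS.exact_conj (r := 5) (k := 2) (a := ((e.symm c : socle ρ P) : H))
        (h := h'') (by norm_num) (e.symm c).2
        (by rw [← Subgroup.coe_pow, ← map_pow, hc5, map_one]; rfl)
        (fun h1 => hc1 (e.symm.injective (Subtype.ext (h1.trans (by rw [map_one]; rfl)))))
        (by rw [← act_apply hS.socle_normal e h'' c, hrel5, map_pow]; rfl)
      exact no_power_conj Nat.prime_five h5F (by decide) hz5 hz1 hk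
    obtain ⟨f⟩ := equiv_of_socle_top e hall
    refine Or.inr (Or.inr (Or.inr (Or.inr (Or.inr (Or.inr (Or.inr (Or.inr ⟨?_, ⟨f.trans e2⟩⟩)))))))
    obtain ⟨k, hk⟩ := hS.dvd
    rw [hk, pow_mul, Nat.pow_mod]
    rcases hq with hq | hq <;> rw [hq]
    · simp
    · rcases Nat.even_or_odd k with ⟨j, rfl⟩ | ⟨j, rfl⟩
      · left; rw [← two_mul, pow_mul, Nat.pow_mod]; simp
      · right; rw [pow_add, pow_mul, Nat.mul_mod, Nat.pow_mod]; simp
  · refine Or.inr (Or.inr (Or.inr (Or.inr (Or.inr (Or.inr (Or.inr (Or.inl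
      ⟨rfl, (even_iff_two_dvd.2 ((even_iff_two_dvd.1 heven).trans hS.dvd)), ?_⟩)))))))
    by_cases htop : ∀ h : H, h ∈ socle ρ P
    · obtain ⟨f⟩ := equiv_of_socle_top e htop
      exact Or.inl ⟨f.trans e2⟩
    push Not at htop
    obtain ⟨h₀, hh₀⟩ := htop
    obtain ⟨h₀', hact₀, hiff₀⟩ := (hcoset h₀).resolve_left hh₀
    refine Or.inr (Or.inr ⟨socle ρ P, ?_, ⟨e.trans e2⟩⟩)
    rw [Subgroup.index_eq_two_iff]
    refine ⟨h₀'⁻¹, fun b => ?_⟩
    have hn₀ : h₀' ∉ socle ρ P := fun h1 => hh₀ (inv_mem_iff.1 (((socle ρ P).mul_mem_cancel_left h1).1 hiff₀))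
    by_cases hbs : b ∈ socle ρ P
    · exact Or.inr ⟨hbs, fun h1 => hn₀ (inv_mem_iff.1 (((socle ρ P).mul_mem_cancel_left hbs).1 h1))⟩
    obtain ⟨b', hactb, hiffb⟩ := (hcoset b).resolve_left hbs
    refine Or.inl ⟨?_, hbs⟩
    obtain rfl : b' = h₀' := hS.act_injective e (hactb.trans hact₀.symm)
    have := inv_mem hiffb
    rwa [_root_.mul_inv_rev, inv_inv] at this

end CfsgLib.DimThreeSub
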