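import Cfsg.Agent.Lib.DimThreeSub.Large
import Cfsg.Agent.Lib.DimThreeSub.Quad
import Cfsg.Agent.Lib.DimThreeSub.Seven
import Cfsg.Agent.Lib.DimThreeSub.Six
import Cfsg.Agent.Lib.DimThreeSub.Alt
import Cfsg.Agent.Lib.AutPSL.GraphFieldUnitary
import Cfsg.Agent.Lib.PrimeElusive.UnitarySimilitude

/-!
# Subgroups of `PSL₃(q)`, `q` odd, without abelian normal subgroups, from Mitchell's theorem
-/

set_option autoImplicit false
set_option linter.unusedSectionVars false

namespace CfsgLib.DimThreeSub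

open Cfsg Cfsg.Geo Matrix CfsgLib.Geo.Asch
open scoped MatrixGroups

universe u v

/-- The list over the field of definition. -/
theorem concl_of_setup (hL : LinCore.{u}) (hU : UnitCore.{u}) {F : Type u} [Field F] [Fintype F]
    {H : Type v} [Group H] {p γ α : ℕ} [Fact p.Prime] {ρ : H →* PG F} {P : Subgroup (GL (Fin 3) F)}
    (hS : Setup p γ α ρ P) : Concl p α H := by
  classical
  have hpp : p.Prime := Fact.out
  haveI : CharP F p := charP_of_card_eq_prime_pow hS.card
  have hp2 : p % 2 = 1 := Nat.odd_iff.1 (hpp.odd_of_ne_two hS.hp)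
  rcases hL F p hS.hp P hS.perfect hS.simple hS.nonab (absIrred_of_algOf_eq_top hS.span) hS.nosub with
    h | ⟨Q, hQ, hfix⟩ | ⟨σ, f, hf, hfix⟩ | hexc
  · exact concl_linear hS h
  · exact concl_quad hS hQ hfix
  · -- inside a unitary group
    have hσ : orderOf σ = 2 := by
      refine orderOf_eq_prime ?_ hf.ne_refl
      rw [pow_two]
      exact RingEquiv.ext fun x => hf.involutive x
    have hdvd : 2 ∣ γ := hσ ▸ CfsgLib.FieldGalois.orderOf_dvd hS.card σ
    obtain ⟨β, hβ⟩ := hdvd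
    have hσq : ∀ x, σ x = x ^ (p ^ β) := fun x => by
      rw [CfsgLib.AutPSL.involution_apply hS.card hσ x, hβ, Nat.mul_div_cancel_left _ two_pos]
    set q := p ^ β with hq
    have hF : Fintype.card F = q ^ 2 := by rw [hS.card, hβ, hq, ← pow_mul, mul_comm]
    have hq3 : 3 ≤ q := by
      have h1 : β ≠ 0 := by
        rintro rfl
        rw [hq, pow_zero, one_pow] at hF
        exact Fintype.one_lt_card.ne' hF
      have h2 : p ≤ q := by rw [hq]; exact Nat.le_self_pow h1 p
      have := hpp.two_le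
      omega
    have hfq : IsUnitaryFormPow q f :=
      ⟨hf.add_left, hf.smul_left, fun v w => (hf.herm v w).trans (hσq _), hf.nondegenerate⟩
    obtain ⟨E, hE⟩ := CfsgLib.PrimeElusive.UnitarySimilitude.exists_std hF hfq
    obtain ⟨E', hE'⟩ := CfsgLib.PrimeElusive.UnitarySimilitude.exists_GL_equiv E
    have hEv : ∀ v, (E' : Matrix (Fin 3) (Fin 3) F) *ᵥ (((E'⁻¹ : GL (Fin 3) F) : Matrix (Fin 3) (Fin 3) F) *ᵥ v) = v :=
      fun v => by rw [Matrix.mulVec_mulVec, Units.mul_inv, Matrix.one_mulVec]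
    obtain ⟨ρ₁, hS₁⟩ := hS.conj E'⁻¹
    set P₁ := P.map (MulAut.conj E'⁻¹).toMonoidHom with hP₁
    have hle : P₁ ≤ Cfsg.GU 3 F q := by
      rintro _ ⟨x, hx, rfl⟩ a b
      have hconj : ∀ w, ((E'⁻¹ * x * E' : GL (Fin 3) F) : Matrix (Fin 3) (Fin 3) F) *ᵥ w =
          ((E'⁻¹ : GL (Fin 3) F) : Matrix (Fin 3) (Fin 3) F) *ᵥ
            ((x : Matrix (Fin 3) (Fin 3) F) *ᵥ ((E' : Matrix (Fin 3) (Fin 3) F) *ᵥ w)) := fun w => by
        rw [Units.val_mul, Units.val_mul, Matrix.mulVec_mulVec, Matrix.mulVec_mulVec, mul_assoc]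
      show Cfsg.hermForm 3 F q (((MulAut.conj E'⁻¹ x : GL (Fin 3) F) : Matrix (Fin 3) (Fin 3) F) *ᵥ a)
        (((MulAut.conj E'⁻¹ x : GL (Fin 3) F) : Matrix (Fin 3) (Fin 3) F) *ᵥ b) = _
      rw [MulAut.conj_apply, inv_inv, hconj, hconj, ← hE, ← hE', ← hE', hEv, hEv, hfix _ ⟨x, hx, rfl⟩, hE', hE', hE]
    have hqodd : Odd q := by rw [hq]; exact (hpp.odd_of_ne_two hS.hp).pow
    rcases hU F q hF hq3 hqodd P₁ hS₁.perfect hS₁.simple hS₁.nonab (absIrred_of_algOf_eq_top hS₁.span)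
        hS₁.nosub hle with h | ⟨Q, hQ, hfixQ⟩ | ⟨hqp, hexc⟩
    · exact concl_unitary hS₁ hβ h
    · exact concl_quad hS₁ hQ hfixQ
    obtain rfl : β = 1 := (Nat.Prime.pow_eq_iff hqp).1 rfl |>.2
    rw [hq, pow_one] at hexc
    rw [mul_one] at hβ
    subst hβ
    rcases hexc with ⟨hiso, hr⟩ | ⟨hiso, hr⟩ | ⟨hiso, hr⟩
    · refine concl_seven hS₁ hiso ?_
      rw [← pow_mul, Nat.pow_mod]
      rcases hr with h | h | h <;> rw [h]
    · refine concl_six hS₁ hiso (by omega) ?_
      by_cases h5 : p = 5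
      · exact Or.inr ⟨h5, even_two⟩
      refine Or.inl ⟨h5, ?_⟩
      rw [Nat.pow_mod]
      have : p % 30 = 11 ∨ p % 30 = 29 := by omega
      rcases this with h | h <;> rw [h] <;> simp
    · exact concl_alt hS₁ hiso hr even_two
  · rcases hexc with ⟨hiso, hc, -, hr⟩ | ⟨hiso, hr⟩
    · obtain rfl : γ = 1 := by
        have h := hS.card.symm.trans hc
        exact Nat.pow_right_injective hpp.two_le (h.trans (pow_one p).symm)
      refine concl_seven hS hiso ?_
      rw [pow_one, Nat.pow_mod]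
      rcases hr with h | h | h <;> rw [h]
    · rcases hr with ⟨hc, hr⟩ | ⟨hc, hp3, hr⟩
      · obtain rfl : γ = 1 := by
          have h := hS.card.symm.trans hc
          exact Nat.pow_right_injective hpp.two_le (h.trans (pow_one p).symm)
        refine concl_six hS hiso (by omega) (Or.inl ⟨by omega, ?_⟩)
        rw [pow_one]
        omega
      · obtain rfl : γ = 2 := Nat.pow_right_injective hpp.two_le (hS.card.symm.trans hc)
        refine concl_six hS hiso hp3 (Or.inl ⟨by omega, ?_⟩)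
        have h3 : p % 3 ≠ 0 := fun h => hp3
          ((Nat.prime_dvd_prime_iff_eq Nat.prime_three hpp).1 (Nat.dvd_of_mod_eq_zero h)).symm
        have hlt : p % 30 < 30 := Nat.mod_lt _ (by norm_num)
        rw [Nat.pow_mod]
        interval_cases hm : p % 30 <;> simp <;> omega

/-- **Subgroups of `PSL₃(q)` without elementary abelian normal subgroups**, from Mitchell's theorem. -/
theorem classification (hL : LinCore.{u}) (hU : UnitCore.{u}) {F : Type u} [Field F] [Fintype F] (p α : ℕ)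
    [Fact p.Prime] (hp : p ≠ 2) (hF : Fintype.card F = p ^ α)
    (H : Subgroup (Matrix.ProjectiveSpecialLinearGroup (Fin 3) F)) (hH : H ≠ ⊥)
    (hN : ∀ N : Subgroup ↥H, N.Normal → IsMulCommutative ↥N → (∃ r : ℕ, r.Prime ∧ ∀ x ∈ N, x ^ r = 1) → N = ⊥) :
    Concl p α H := by
  obtain ⟨F₀, _, γ, ρ, P, hS⟩ := reduce p α hp hF H hH hN
  exact concl_of_setup hL hU hS

end CfsgLib.DimThreeSub
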