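import Cfsg.Agent.Lib.DimThreeSub.Transport

/-!
# From a subgroup of `PSL₃` to a socle over its field of definition
-/

set_option autoImplicit false
set_option linter.unusedSectionVars false

namespace CfsgLib.DimThreeSub

open Cfsg Cfsg.Geo Matrix CfsgLib.Geo.Asch
open scoped MatrixGroups

universe u v

variable {F : Type u} [Field F] [Fintype F]

/-- An abelian normal subgroup contains an elementary abelian one. -/
theorem noAb_of_elementary {H : Type v} [Group H] [Finite H]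
    (hN : ∀ N : Subgroup H, N.Normal → IsMulCommutative N → (∃ r : ℕ, r.Prime ∧ ∀ x ∈ N, x ^ r = 1) → N = ⊥) :
    NoAb H := by
  intro N hn hc
  by_contra hne
  have h1 : 1 < Nat.card N := Subgroup.one_lt_card_iff_ne_bot N |>.2 hne
  set r := (Nat.card N).minFac with hr
  have hrp : r.Prime := Nat.minFac_prime (by omega)
  haveI : Fact r.Prime := ⟨hrp⟩
  obtain ⟨z, hz⟩ := exists_prime_orderOf_dvd_card' (G := N) r (Nat.minFac_dvd _)
  let K : Subgroup H :=
    { carrier := {x | x ∈ N ∧ x ^ r = 1}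
      one_mem' := ⟨one_mem _, one_pow _⟩
      mul_mem' := fun {a b} ha hb =>
        ⟨mul_mem ha.1 hb.1, by rw [Commute.mul_pow (hc a ha.1 b hb.1), ha.2, hb.2, one_mul]⟩
      inv_mem' := fun {a} ha => ⟨inv_mem ha.1, by rw [inv_pow, ha.2, inv_one]⟩ }
  have hKbot : K = ⊥ := hN K
    ⟨fun x hx g => ⟨hn.conj_mem x hx.1 g, by rw [conj_pow, hx.2, mul_one, mul_inv_cancel]⟩⟩
    ⟨⟨fun a b => Subtype.ext (hc _ a.2.1 _ b.2.1)⟩⟩ ⟨r, hrp, fun x hx => hx.2⟩
  have hzK : (z : H) ∈ K := ⟨z.2, by rw [← Subgroup.coe_pow, ← hz, pow_orderOf_eq_one]; rfl⟩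
  rw [hKbot, Subgroup.mem_bot] at hzK
  rw [show z = 1 from Subtype.ext hzK, orderOf_one] at hz
  exact hrp.one_lt.ne hz

/-- The embedding of `PSL₃` into `PGL₃`. -/
theorem exists_embedding :
    ∃ ι : Matrix.ProjectiveSpecialLinearGroup (Fin 3) F →* PG F, Function.Injective ι ∧
      ∀ g : GL (Fin 3) F, (∃ a, ι a = (g : PG F)) → ∃ x : F, x ^ 3 = (g : Matrix (Fin 3) (Fin 3) F).det := by
  have hc : ∀ a : Matrix.SpecialLinearGroup (Fin 3) F,
      Matrix.SpecialLinearGroup.toGL a ∈ scalars (Fin 3) F ↔ a ∈ Subgroup.center _ := by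
    intro a
    rw [Matrix.SpecialLinearGroup.mem_center_iff, mem_scalars_iff]
    constructor
    · rintro ⟨c, hc⟩
      have hc' : (a : Matrix (Fin 3) (Fin 3) F) = (c : F) • 1 := hc
      refine ⟨c, ?_, ?_⟩
      · have h := a.2
        rw [hc', Matrix.det_smul, Matrix.det_one, mul_one] at h
        exact h
      · rw [hc', Matrix.scalar_apply, Matrix.smul_one_eq_diagonal]
    · rintro ⟨c, hc3, hc⟩
      have hc0 : c ≠ 0 := fun h => by rw [h, zero_pow (by simp)] at hc3; exact zero_ne_one hc3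
      refine ⟨Units.mk0 c hc0, ?_⟩
      show (a : Matrix (Fin 3) (Fin 3) F) = _
      rw [← hc, Units.val_mk0, Matrix.scalar_apply, Matrix.smul_one_eq_diagonal]
  refine ⟨QuotientGroup.map _ _ Matrix.SpecialLinearGroup.toGL (fun a ha => (hc a).2 ha), ?_, ?_⟩
  · rw [injective_iff_map_eq_one]
    intro q hq
    obtain ⟨a, rfl⟩ := QuotientGroup.mk_surjective q
    change ((Matrix.SpecialLinearGroup.toGL a : GL (Fin 3) F) : PG F) = 1 at hq
    rw [QuotientGroup.eq_one_iff] at hq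
    exact (QuotientGroup.eq_one_iff a).2 ((hc a).1 hq)
  · rintro g ⟨q, hq⟩
    obtain ⟨a, rfl⟩ := QuotientGroup.mk_surjective q
    change ((Matrix.SpecialLinearGroup.toGL a : GL (Fin 3) F) : PG F) = (g : PG F) at hq
    rw [QuotientGroup.eq] at hq
    obtain ⟨c, hc'⟩ := (mem_scalars_iff _).1 hq
    refine ⟨c, ?_⟩
    have hga : (g : Matrix (Fin 3) (Fin 3) F) = (c : F) • (a : Matrix (Fin 3) (Fin 3) F) := by
      have e : g = Matrix.SpecialLinearGroup.toGL a * ((Matrix.SpecialLinearGroup.toGL a)⁻¹ * g) := by group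
      rw [e, Units.val_mul, hc', Matrix.mul_smul, mul_one]
      rfl
    rw [hga, Matrix.det_smul, a.2, mul_one, Fintype.card_fin]

/-- A non-cube of a subfield which is a cube in the field forces the degree to be divisible by three. -/
theorem three_dvd_degree {F₀ : Subfield F} {m : ℕ} (hm : Fintype.card F = Nat.card F₀ ^ m) (d : F₀)
    (hd : ∀ y : F₀, y ^ 3 ≠ d) {x : F} (hx : x ^ 3 = (d : F)) : 3 ∣ m := by
  haveI : FiniteDimensional F₀ F := Module.Finite.of_finite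
  have hm' : Module.finrank F₀ F = m := by
    have h := Module.natCard_eq_pow_finrank (K := F₀) (V := F)
    rw [Nat.card_eq_fintype_card, hm] at h
    exact (Nat.pow_right_injective (Finite.one_lt_card (α := F₀)) h).symm
  by_contra h3
  have hN : (Algebra.norm F₀ x) ^ 3 = d ^ m := by
    rw [← map_pow, hx, show (d : F) = algebraMap F₀ F d from rfl, Algebra.norm_algebraMap, hm']
  by_cases hd0 : d = 0
  · exact hd 0 (by rw [hd0, zero_pow (by omega)])
  rcases (show m % 3 = 1 ∨ m % 3 = 2 by omega) with h | h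
  · obtain ⟨k, rfl⟩ : ∃ k, m = 3 * k + 1 := ⟨m / 3, by omega⟩
    refine hd (Algebra.norm F₀ x * (d ^ k)⁻¹) ?_
    rw [mul_pow, hN, inv_pow, ← pow_mul, mul_comm k 3, pow_succ, mul_right_comm,
      mul_inv_cancel₀ (pow_ne_zero _ hd0), one_mul]
  · obtain ⟨k, rfl⟩ : ∃ k, m = 3 * k + 2 := ⟨m / 3, by omega⟩
    refine hd (d ^ (k + 1) * (Algebra.norm F₀ x)⁻¹) ?_
    rw [mul_pow, inv_pow, hN, ← pow_mul, show (k + 1) * 3 = 1 + (3 * k + 2) by ring, pow_add, pow_one,
      mul_inv_cancel_right₀ (pow_ne_zero _ hd0)]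

/-- **Reduction to the socle over its field of definition.** -/
theorem reduce (p α : ℕ) [Fact p.Prime] (hp : p ≠ 2) (hF : Fintype.card F = p ^ α)
    (H : Subgroup (Matrix.ProjectiveSpecialLinearGroup (Fin 3) F)) (hH : H ≠ ⊥)
    (hN : ∀ N : Subgroup ↥H, N.Normal → IsMulCommutative ↥N → (∃ r : ℕ, r.Prime ∧ ∀ x ∈ N, x ^ r = 1) → N = ⊥) :
    ∃ (F₀ : Subfield F) (_ : Fintype F₀) (γ : ℕ) (ρ : H →* PG F₀) (P : Subgroup (GL (Fin 3) F₀)),
      Setup p γ α ρ P := by
  classical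
  obtain ⟨ι, hι, hdetι⟩ := exists_embedding (F := F)
  set ρ : H →* PG F := ι.comp H.subtype with hρdef
  have hρ : Function.Injective ρ := hι.comp H.subtype_injective
  have hnoab : NoAb H := noAb_of_elementary hN
  have hchar : CharP F p := charP_of_card_eq_prime_pow hF
  have h2 : (2 : F) ≠ 0 := by
    intro h
    have h' : ((2 : ℕ) : F) = 0 := by exact_mod_cast h
    exact hp ((Nat.prime_dvd_prime_iff_eq Fact.out Nat.prime_two).1 ((CharP.cast_eq_zero_iff F p 2).1 h'))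
  have hcubeF : ∀ g ∈ lifts ρ, ∃ x : F, x ^ 3 = (g : Matrix (Fin 3) (Fin 3) F).det := by
    rintro g ⟨a, ha⟩
    exact hdetι g ⟨a.1, ha⟩
  -- the determinant-one part
  set L := lifts ρ ⊓ specialLinear (Fin 3) F with hL
  have hLdet : ∀ g ∈ L, (g : Matrix (Fin 3) (Fin 3) F).det = 1 := fun g hg =>
    congrArg Units.val (MonoidHom.mem_ker.1 hg.2)
  have hsplit : ∀ g ∈ lifts ρ, ∃ l ∈ L, ∃ s ∈ scalars (Fin 3) F, g = l * s := by
    intro g hg
    obtain ⟨x, hx⟩ := hcubeF g hg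
    have hx0 : x ≠ 0 := fun h => Matrix.GeneralLinearGroup.det_ne_zero g
      (by rw [← hx, h, zero_pow (by simp)])
    let s : GL (Fin 3) F := Units.map (Matrix.scalar (Fin 3) : F →+* Matrix (Fin 3) (Fin 3) F).toMonoidHom
      (Units.mk0 x hx0)
    have hs : s ∈ scalars (Fin 3) F := ⟨_, rfl⟩
    refine ⟨g * s⁻¹, ⟨mul_scalar_mem_lifts hg (inv_mem hs), ?_⟩, s, hs, by group⟩
    refine MonoidHom.mem_ker.2 ?_
    rw [map_mul, map_inv, mul_inv_eq_one]
    apply Units.ext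
    show (g : Matrix (Fin 3) (Fin 3) F).det = (Matrix.scalar (Fin 3) x).det
    rw [← hx, Matrix.scalar_apply, Matrix.det_diagonal]
    simp
  have hns : ¬ L ≤ scalars (Fin 3) F := by
    intro hle
    apply hH
    rw [Subgroup.eq_bot_iff_forall]
    intro a ha
    obtain ⟨g, hg⟩ := QuotientGroup.mk_surjective (ρ ⟨a, ha⟩)
    obtain ⟨l, hl, s, hs, rfl⟩ := hsplit g ⟨_, hg.symm⟩
    have h1 : ρ ⟨a, ha⟩ = 1 := by
      rw [← hg, QuotientGroup.eq_one_iff]
      exact mul_mem (hle hl) hs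
    exact congrArg Subtype.val ((map_eq_one_iff ρ hρ).1 h1)
  have hab : ∀ K : Subgroup (GL (Fin 3) F), K ≤ L → (∀ g ∈ L, ∀ x ∈ K, g * x * g⁻¹ ∈ K) →
      (∀ x ∈ K, ∀ y ∈ K, x * y * x⁻¹ * y⁻¹ ∈ scalars (Fin 3) F) → K ≤ scalars (Fin 3) F := by
    intro K hKL hKn hKc
    set N : Subgroup H := (K.map (QuotientGroup.mk' (scalars (Fin 3) F))).comap ρ with hNdef
    have hNn : N.Normal := by
      refine ⟨fun a ha b => ?_⟩
      obtain ⟨x, hx, hxa⟩ := ha
      obtain ⟨g, hg⟩ := QuotientGroup.mk_surjective (ρ b)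
      obtain ⟨l, hl, s, hs, rfl⟩ := hsplit g ⟨_, hg.symm⟩
      refine ⟨l * x * l⁻¹, hKn l hl x hx, ?_⟩
      have hs1 : QuotientGroup.mk' (scalars (Fin 3) F) s = 1 := (QuotientGroup.eq_one_iff s).2 hs
      rw [map_mul, map_mul, map_inv, map_mul, map_mul, map_inv, hxa, ← hg, QuotientGroup.mk'_apply,
        QuotientGroup.mk_mul, ← QuotientGroup.mk'_apply (N := scalars (Fin 3) F) s, hs1, mul_one]
    have hNc : ∀ a ∈ N, ∀ b ∈ N, a * b = b * a := by
      rintro a ⟨x, hx, hxa⟩ b ⟨y, hy, hyb⟩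
      apply hρ
      rw [map_mul, map_mul, ← hxa, ← hyb]
      have h1 : QuotientGroup.mk' (scalars (Fin 3) F) (x * y * x⁻¹ * y⁻¹) = 1 :=
        (QuotientGroup.eq_one_iff _).2 (hKc x hx y hy)
      rwa [map_mul, map_mul, map_mul, map_inv, map_inv, mul_inv_eq_one, mul_inv_eq_iff_eq_mul] at h1
    intro x hx
    obtain ⟨a, ha⟩ := (hKL hx).1
    have haN : a ∈ N := ⟨x, hx, ha.symm⟩
    rw [hnoab N hNn hNc, Subgroup.mem_bot] at haN
    rw [haN, map_one] at ha
    exact (QuotientGroup.eq_one_iff x).1 ha.symm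
  obtain ⟨P, hPL, hPn, hperf, hPns, hspan, hsimp, hnab, hcent⟩ := exists_socle h2 L hLdet hns hab
  have hpre : Pre ρ P := by
    refine ⟨hρ, hnoab, hPL.trans inf_le_left, ?_, hperf, hPns, hspan, hsimp, hnab, ?_⟩
    · intro g hg x hx
      obtain ⟨l, hl, s, hs, rfl⟩ := hsplit g hg
      rw [show l * s * x * (l * s)⁻¹ = l * (s * x * s⁻¹) * l⁻¹ by group, scalars_comm hs x,
        mul_inv_cancel_right]
      exact hPn l hl x hx
    · intro g hg hc
      obtain ⟨l, hl, s, hs, rfl⟩ := hsplit g hg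
      refine mul_mem (hcent l hl fun x hx => ?_) hs
      have h1 := hc x hx
      rw [show l * s * x * (l * s)⁻¹ * x⁻¹ = l * (s * x * s⁻¹) * l⁻¹ * x⁻¹ by group, scalars_comm hs x,
        mul_inv_cancel_right] at h1
      exact h1
  -- the field of definition
  obtain ⟨F₀, hF₀, hmin⟩ := (Set.toFinite {K : Subfield F | RealisableOver K (matrixSet P)}).exists_minimal
    ⟨⊤, 1, fun _ _ _ _ => Subfield.mem_top _⟩
  obtain ⟨B, hB⟩ := hF₀
  set P' := P.map (MulAut.conj B).toMonoidHom with hP'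
  obtain ⟨ρ', hpre', hmem'⟩ : ∃ ρ' : H →* PG F, Pre ρ' P' ∧ ∀ g, g ∈ lifts ρ' ↔ B⁻¹ * g * B ∈ lifts ρ := by
    have hP : P'.map (MulAut.conj B⁻¹).toMonoidHom = P := by
      rw [hP', Subgroup.map_map]
      convert Subgroup.map_id P
      ext g
      simp [MulAut.conj_apply, mul_assoc]
    have hpre₁ : Pre ρ (P'.map (MulAut.conj B⁻¹).toMonoidHom) := by rw [hP]; exact hpre
    obtain ⟨ρ', h1, h2'⟩ := Pre.pull (respectsScalars_conj B⁻¹) (MulAut.conj B⁻¹).injective hpre₁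
      (algOf_map_conj B hspan) (fun g _ => ⟨B * g * B⁻¹, by simp [mul_assoc]⟩)
    exact ⟨ρ', h1, fun g => by rw [h2']; simp [mul_assoc]⟩
  set φ := Matrix.GeneralLinearGroup.map (n := Fin 3) (F₀.subtype : F₀ →+* F) with hφ
  set P₀ := P'.comap φ with hP₀
  have hP₀map : P₀.map φ = P' := by
    refine Subgroup.map_comap_eq_self ?_
    rintro _ ⟨x, hx, rfl⟩
    have hrat : ∀ i j, ((B * x * B⁻¹ : GL (Fin 3) F) : Matrix (Fin 3) (Fin 3) F) i j ∈ F₀ :=
      fun i j => hB _ ⟨x, hx, rfl⟩ i j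
    obtain ⟨X, hX⟩ := rat_range_mem_iff.1 hrat
    have hdet : X.det ≠ 0 := by
      intro h0
      refine Matrix.GeneralLinearGroup.det_ne_zero (B * x * B⁻¹) ?_
      rw [← hX, ← RingHom.map_det, h0, map_zero]
    exact ⟨Matrix.GeneralLinearGroup.mkOfDetNeZero X hdet, Units.ext hX⟩
  rw [← hP₀map] at hpre'
  have hspan₀ : Submodule.span F₀ (matrixSet P₀) = ⊤ := span_descend hpre'.span
  have halg₀ : algOf P₀ = ⊤ := by
    rw [eq_top_iff]
    intro M _
    have : M ∈ Submodule.span F₀ (matrixSet P₀) := hspan₀ ▸ Submodule.mem_top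
    exact Algebra.span_le_adjoin F₀ _ this
  obtain ⟨ρ₀, hpre₀, hmem₀⟩ := Pre.pull (respectsScalars_map F₀) (map_subtype_injective F₀) hpre' halg₀
    (fun g hg => exists_rational_normaliser hspan₀ fun x hx =>
      hpre'.normal g hg _ (Subgroup.mem_map_of_mem φ hx))
  haveI : Fintype F₀ := Fintype.ofFinite F₀
  haveI : FiniteDimensional F₀ F := Module.Finite.of_finite
  haveI : CharP F₀ p := (RingHom.charP_iff (F₀.subtype) Subtype.val_injective p).2 hchar
  obtain ⟨γ, hγp, hcard⟩ := FiniteField.card F₀ p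
  have hFc : Fintype.card F = Nat.card F₀ ^ Module.finrank F₀ F := by
    rw [← Nat.card_eq_fintype_card, Module.natCard_eq_pow_finrank (K := F₀)]
  have hαγ : α = γ * Module.finrank F₀ F := by
    have h := hFc
    rw [hF, Nat.card_eq_fintype_card, hcard, ← pow_mul] at h
    exact Nat.pow_right_injective (Fact.out : p.Prime).two_le h
  refine ⟨F₀, inferInstance, γ, ρ₀, P₀, hpre₀.setup hcard ⟨_, hαγ⟩ hp ?_ ?_⟩
  · rintro K hK ⟨C, hC⟩
    set K' : Subfield F := K.map (F₀.subtype : F₀ →+* F) with hK'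
    have hle : K' ≤ F₀ := by
      rintro _ ⟨y, -, rfl⟩
      exact y.2
    have hreal : RealisableOver K' (matrixSet P) := by
      refine realisable_map_conj (P := P) B ?_
      rw [← hP', ← hP₀map]
      refine ⟨φ C, ?_⟩
      rintro _ ⟨_, ⟨x, hx, rfl⟩, rfl⟩ i j
      refine ⟨_, hC _ ⟨x, hx, rfl⟩ i j, ?_⟩
      show ((F₀.subtype : F₀ →+* F).mapMatrix ((C : Matrix (Fin 3) (Fin 3) F₀) *
        (x : Matrix (Fin 3) (Fin 3) F₀) * ((C⁻¹ : GL (Fin 3) F₀) : Matrix (Fin 3) (Fin 3) F₀))) i j = _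
      rw [map_mul, map_mul]
      rfl
    have hge := hmin hreal hle
    apply hK
    rw [eq_top_iff]
    intro y _
    obtain ⟨z, hz, hzy⟩ := hge y.2
    rw [← show z = y from Subtype.ext hzy]
    exact hz
  · intro g hg hno
    obtain ⟨x, hx⟩ : ∃ x : F, x ^ 3 = (φ g : Matrix (Fin 3) (Fin 3) F).det := by
      obtain ⟨x, hx⟩ := hcubeF _ ((hmem' _).1 ((hmem₀ g).1 hg))
      refine ⟨x, hx.trans ?_⟩
      conv_lhs => rw [show B⁻¹ * φ g * B = B⁻¹ * φ g * B⁻¹⁻¹ by rw [inv_inv]]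
      exact det_conj B⁻¹ (φ g)
    have hdet : (φ g : Matrix (Fin 3) (Fin 3) F).det = ((g : Matrix (Fin 3) (Fin 3) F₀).det : F) := by
      show ((F₀.subtype : F₀ →+* F).mapMatrix (g : Matrix (Fin 3) (Fin 3) F₀)).det = _
      rw [← RingHom.map_det]
      rfl
    obtain ⟨k, hk⟩ := three_dvd_degree hFc _ hno (hx.trans hdet)
    exact ⟨k, by rw [hαγ, hk]; ring⟩

end CfsgLib.DimThreeSub
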