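import Cfsg.Agent.Lib.DimThreeSub.Transport
import Cfsg.Agent.Lib.AutPSL.OutPSL

/-!
# Automorphisms induced on the socle, and lifting relations to matrices
-/

set_option autoImplicit false
set_option linter.unusedSectionVars false

namespace CfsgLib.DimThreeSub

open Cfsg Cfsg.Geo Matrix CfsgLib.Geo.Asch
open scoped MatrixGroups

universe u v w

variable {F : Type u} [Field F] [Fintype F] {H : Type v} [Group H] {p γ α : ℕ}
  {ρ : H →* PG F} {P : Subgroup (GL (Fin 3) F)}

/-- The socle inside `H`. -/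
def socle (ρ : H →* PG F) (P : Subgroup (GL (Fin 3) F)) : Subgroup H :=
  (P.map (QuotientGroup.mk' (scalars (Fin 3) F))).comap ρ

theorem mem_socle {a : H} : a ∈ socle ρ P ↔ ∃ x ∈ P, ((x : GL (Fin 3) F) : PG F) = ρ a := Iff.rfl

theorem Setup.socle_normal (hS : Setup p γ α ρ P) : (socle ρ P).Normal := by
  refine ⟨fun a ha b => ?_⟩
  obtain ⟨x, hx, hxa⟩ := mem_socle.1 ha
  obtain ⟨g, hg⟩ := QuotientGroup.mk_surjective (ρ b)
  refine ⟨g * x * g⁻¹, hS.normal g ⟨b, hg.symm⟩ x hx, ?_⟩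
  rw [map_mul, map_mul, map_mul, map_mul, map_inv, map_inv, QuotientGroup.mk'_apply, QuotientGroup.mk'_apply,
    hxa, hg]

theorem Setup.socle_map (hS : Setup p γ α ρ P) :
    (socle ρ P).map ρ = P.map (QuotientGroup.mk' (scalars (Fin 3) F)) := by
  refine Subgroup.map_comap_eq_self ?_
  rintro _ ⟨x, hx, rfl⟩
  exact hS.le hx

theorem Setup.socle_equiv (hS : Setup p γ α ρ P) :
    Nonempty (socle ρ P ≃* P ⧸ (scalars (Fin 3) F).subgroupOf P) := by
  let f : P →* PG F := (QuotientGroup.mk' (scalars (Fin 3) F)).comp P.subtype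
  have hk : f.ker = (scalars (Fin 3) F).subgroupOf P := by
    ext x
    rw [MonoidHom.mem_ker, Subgroup.mem_subgroupOf]
    exact QuotientGroup.eq_one_iff _
  have hr : f.range = P.map (QuotientGroup.mk' (scalars (Fin 3) F)) := by
    show ((QuotientGroup.mk' (scalars (Fin 3) F)).comp P.subtype).range = _
    rw [MonoidHom.range_eq_map, ← Subgroup.map_map, ← MonoidHom.range_eq_map, Subgroup.range_subtype]
  exact ⟨((socle ρ P).equivMapOfInjective ρ hS.inj).trans ((MulEquiv.subgroupCongr (hS.socle_map.trans hr.symm)).trans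
    ((QuotientGroup.quotientKerEquivRange f).symm.trans (QuotientGroup.quotientMulEquivOfEq hk)))⟩

theorem Setup.eq_one_of_centralizes (hS : Setup p γ α ρ P) {h : H} (hc : ∀ a ∈ socle ρ P, h * a = a * h) :
    h = 1 := by
  obtain ⟨g, hg⟩ := QuotientGroup.mk_surjective (ρ h)
  refine (map_eq_one_iff ρ hS.inj).1 ?_
  rw [← hg, QuotientGroup.eq_one_iff]
  refine hS.cent g ⟨h, hg.symm⟩ fun x hx => ?_
  obtain ⟨a, ha⟩ := hS.le hx
  have h1 := congrArg ρ (hc a ⟨x, hx, ha.symm⟩)
  rw [map_mul, map_mul, ← hg, ha, QuotientGroup.mk'_apply, ← QuotientGroup.mk_mul, ← QuotientGroup.mk_mul] at h1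
  rw [← QuotientGroup.eq_one_iff, QuotientGroup.mk_mul, QuotientGroup.mk_mul, h1, QuotientGroup.mk_mul,
    QuotientGroup.mk_inv, QuotientGroup.mk_inv]
  group

/-- A scalar of determinant one has cube one. -/
theorem scalar_cube {s : GL (Fin 3) F} (hs : s ∈ scalars (Fin 3) F)
    (hd : (s : Matrix (Fin 3) (Fin 3) F).det = 1) : s ^ 3 = 1 := by
  obtain ⟨c, hc⟩ := (mem_scalars_iff s).1 hs
  apply Units.ext
  rw [hc, Matrix.det_smul, Matrix.det_one, mul_one, Fintype.card_fin] at hd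
  rw [Units.val_pow_eq_pow_val, hc, smul_pow, one_pow, hd, one_smul, Units.val_one]

/-- An element of the socle of order prime to three lifts to an element of the same order. -/
theorem Setup.exists_exact (hS : Setup p γ α ρ P) {r : ℕ} (hr : Nat.Coprime r 3) {a : H}
    (ha : a ∈ socle ρ P) (har : a ^ r = 1) :
    ∃ x ∈ P, ((x : GL (Fin 3) F) : PG F) = ρ a ∧ x ^ r = 1 := by
  obtain ⟨x, hx, hxa⟩ := mem_socle.1 ha
  obtain ⟨m, hm1, hm3⟩ := Nat.chineseRemainder hr 1 0
  have hxr : x ^ r ∈ scalars (Fin 3) F := by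
    rw [← QuotientGroup.eq_one_iff, QuotientGroup.mk_pow, hxa, ← map_pow, har, map_one]
  refine ⟨x ^ m, P.pow_mem hx m, ?_, ?_⟩
  · rw [QuotientGroup.mk_pow, hxa, ← map_pow]
    congr 1
    have := pow_eq_pow_mod m har
    rw [this, hm1, ← pow_eq_pow_mod 1 har, pow_one]
  · obtain ⟨k, hk⟩ := Nat.modEq_zero_iff_dvd.1 hm3
    rw [← pow_mul, mul_comm, pow_mul, hk, pow_mul, scalar_cube hxr (hS.det_eq_one (P.pow_mem hx r)), one_pow]

/-- Relations of conjugation lift exactly. -/
theorem Setup.exact_conj (hS : Setup p γ α ρ P) {r k : ℕ} (hr : Nat.Coprime r 3) {a h : H}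
    (ha : a ∈ socle ρ P) (har : a ^ r = 1) (ha1 : a ≠ 1) (hh : h * a * h⁻¹ = a ^ k) :
    ∃ x g : GL (Fin 3) F, x ^ r = 1 ∧ x ≠ 1 ∧ g * x * g⁻¹ = x ^ k := by
  obtain ⟨x, hx, hxa, hxr⟩ := hS.exists_exact hr ha har
  obtain ⟨g, hg⟩ := QuotientGroup.mk_surjective (ρ h)
  refine ⟨x, g, hxr, fun h1 => ha1 ((map_eq_one_iff ρ hS.inj).1 (by rw [← hxa, h1]; rfl)), ?_⟩
  set s := (g * x * g⁻¹) * (x ^ k)⁻¹ with hs
  have hsP : s ∈ P := P.mul_mem (hS.normal g ⟨h, hg.symm⟩ x hx) (P.inv_mem (P.pow_mem hx k))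
  have hsS : s ∈ scalars (Fin 3) F := by
    rw [← QuotientGroup.eq_one_iff, hs, QuotientGroup.mk_mul, QuotientGroup.mk_mul, QuotientGroup.mk_mul,
      QuotientGroup.mk_inv, QuotientGroup.mk_inv, QuotientGroup.mk_pow, hxa, hg, ← map_inv, ← map_mul, ← map_mul,
      hh, map_pow, mul_inv_cancel]
  have hsr : s ^ r = 1 := by
    have hc : Commute s (x ^ k) := scalars_comm hsS _
    have e : (s * x ^ k) ^ r = 1 := by
      rw [hs, inv_mul_cancel_right, conj_pow, hxr, mul_one, mul_inv_cancel]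
    rw [hc.mul_pow, ← pow_mul, mul_comm k r, pow_mul, hxr, one_pow, mul_one] at e
    exact e
  have h1 : orderOf s = 1 := Nat.eq_one_of_dvd_coprimes hr (orderOf_dvd_of_pow_eq_one hsr)
    (orderOf_dvd_of_pow_eq_one (scalar_cube hsS (hS.det_eq_one hsP)))
  exact mul_inv_eq_one.1 (orderOf_eq_one_iff.1 h1)

/-! ### The action on a model of the socle -/

variable {M : Type w} [Group M]

/-- The automorphism of the model induced by an element of `H`. -/
noncomputable def act (hn : (socle ρ P).Normal) (e : socle ρ P ≃* M) : H →* MulAut M :=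
  haveI := hn
  (MulAut.congr e).toMonoidHom.comp MulAut.conjNormal

theorem act_apply (hn : (socle ρ P).Normal) (e : socle ρ P ≃* M) (h : H) (m : M) :
    ((e.symm (act hn e h m)) : H) = h * (e.symm m : H) * h⁻¹ := by
  haveI := hn
  show ((e.symm (e (MulAut.conjNormal h (e.symm m)))) : H) = _
  rw [e.symm_apply_apply, MulAut.conjNormal_apply]

theorem act_symm (hn : (socle ρ P).Normal) (e : socle ρ P ≃* M) (m : M) :
    act hn e (e.symm m : H) = MulAut.conj m := by
  haveI := hn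
  refine MulEquiv.ext fun b => e.symm.injective (Subtype.ext ?_)
  rw [act_apply, MulAut.conj_apply, map_mul, map_mul, map_inv]
  rfl

theorem Setup.act_injective (hS : Setup p γ α ρ P) (e : socle ρ P ≃* M) :
    Function.Injective (act hS.socle_normal e) := by
  rw [injective_iff_map_eq_one]
  intro h hh
  refine hS.eq_one_of_centralizes fun a ha => ?_
  have := act_apply hS.socle_normal e h (e ⟨a, ha⟩)
  rw [hh, MulAut.one_apply, e.symm_apply_apply] at this
  exact (mul_inv_eq_iff_eq_mul.1 this.symm)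

theorem Setup.mem_socle_of_inner (hS : Setup p γ α ρ P) (e : socle ρ P ≃* M) {h : H} {m : M}
    (hh : act hS.socle_normal e h = MulAut.conj m) : h ∈ socle ρ P := by
  have := hS.act_injective e (hh.trans (act_symm hS.socle_normal e m).symm)
  rw [this]
  exact (e.symm m).2

/-- Splitting off an inner factor. -/
theorem Setup.exists_reduced (hS : Setup p γ α ρ P) (e : socle ρ P ≃* M) {h : H} {m : M} {β : MulAut M}
    (hh : act hS.socle_normal e h = MulAut.conj m * β) :
    ∃ h' : H, act hS.socle_normal e h' = β ∧ h' * h⁻¹ ∈ socle ρ P := by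
  refine ⟨(e.symm m : H)⁻¹ * h, ?_, ?_⟩
  · rw [map_mul, map_inv, act_symm, hh, inv_mul_cancel_left]
  · rw [mul_inv_cancel_right]
    exact inv_mem (e.symm m).2

/-- If the socle is everything the group is the model. -/
theorem equiv_of_socle_top (e : socle ρ P ≃* M) (h : ∀ a : H, a ∈ socle ρ P) : Nonempty (H ≃* M) :=
  ⟨(Subgroup.topEquiv.symm.trans (MulEquiv.subgroupCongr (Subgroup.eq_top_iff' _ |>.2 h).symm)).trans e⟩

/-! ### Automorphisms of the two-dimensional projective groups -/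

open CfsgLib.AutPSL in
/-- Conjugation by a matrix with square determinant is inner. -/
theorem conjAut_inner {K : Type*} [Field K] {g : GL (Fin 2) K} {c : K}
    (hc : c * c = (g : Matrix (Fin 2) (Fin 2) K).det) :
    ∃ m : PSLG 2 K, conjAut g = MulAut.conj m := by
  have hc0 : c ≠ 0 := fun h => Matrix.GeneralLinearGroup.det_ne_zero g (by rw [← hc, h, mul_zero])
  let s : SLG 2 K := ⟨c⁻¹ • (g : Matrix (Fin 2) (Fin 2) K), by
    rw [Matrix.det_smul, Fintype.card_fin, ← hc, inv_pow, pow_two, inv_mul_cancel₀ (mul_ne_zero hc0 hc0)]⟩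
  refine ⟨(s : PSLG 2 K), MulEquiv.ext fun y => ?_⟩
  induction y using QuotientGroup.induction_on with
  | H t =>
    rw [conjAut_mk, MulAut.conj_apply, ← QuotientGroup.mk_inv, ← QuotientGroup.mk_mul, ← QuotientGroup.mk_mul]
    refine congrArg _ (eq_mul_inv_of_mul_eq (Subtype.ext ?_))
    rw [Matrix.SpecialLinearGroup.coe_mul, Matrix.SpecialLinearGroup.coe_mul, slConj_coe]
    show _ * (c⁻¹ • (g : Matrix (Fin 2) (Fin 2) K)) = (c⁻¹ • (g : Matrix (Fin 2) (Fin 2) K)) * t.1
    rw [Matrix.mul_smul, Matrix.smul_mul, mul_assoc, Units.inv_mul, mul_one]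

open CfsgLib.AutPSL in
/-- Every automorphism of a two-dimensional projective group is semilinear. -/
theorem exists_semilinear {K : Type*} [Field K] [Fintype K] (β : MulAut (PSLG 2 K)) :
    ∃ (g : GL (Fin 2) K) (σ : K ≃+* K), β = conjAut g * fieldAut σ := by
  obtain ⟨g, σ, h | h⟩ := aut_psl_structure le_rfl β
  · exact ⟨g, σ, h⟩
  · obtain ⟨k, hk⟩ := iotaAut_two (F := K)
    refine ⟨g * glField σ k, σ, ?_⟩
    rw [h, ← hk, map_mul, mul_assoc, mul_assoc, fieldAut_mul_conjAut]

end CfsgLib.DimThreeSub
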